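import Cfsg.Agent.Lib.ConjRankThree.Basic
import Cfsg.Agent.S4033
import Cfsg.Agent.S0564

set_option autoImplicit false
set_option linter.unusedSectionVars false

/-!
Centralizers of minimal order, and groups with two sizes of classes of p-regular elements.
-/

namespace CfsgLib.ConjRankThree

open Subgroup

universe u

variable {G : Type u} [Group G] [Finite G]

theorem exists_sylow_le' {r : ℕ} [Fact r.Prime] {x : G} (h : r ^ (Nat.card G).factorization r ∣ cc x) :
    ∃ R : Sylow r G, (R : Subgroup G) ≤ centralizer ({x} : Set G) := by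
  obtain ⟨P, hP⟩ := Sylow.exists_subgroup_card_pow_prime r
    (G := centralizer ({x} : Set G)) (n := (Nat.card G).factorization r) h
  exact ⟨Sylow.ofCard _ (show Nat.card (P.map (centralizer ({x} : Set G)).subtype) = _ by
    rw [Nat.card_congr (P.equivMapOfInjective _ (subtype_injective _)).symm.toEquiv, hP]), map_subtype_le P⟩

theorem exists_orderOf_dvd {r : ℕ} (hr : r.Prime) {H : Subgroup G} (h : r ∣ Nat.card H) :
    ∃ v ∈ H, orderOf v = r ∧ v ≠ 1 := by
  haveI := Fact.mk hr
  obtain ⟨⟨v, hv⟩, ho⟩ := exists_prime_orderOf_dvd_card' (G := H) r h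
  rw [Subgroup.orderOf_mk] at ho
  exact ⟨v, hv, ho, fun e => hr.one_lt.ne (by rw [← ho, e, orderOf_one])⟩

/-- The centralizer of minimal order of an element of prime power order is nilpotent. -/
theorem MinC.isNilpotent_cent {x : G} {p k : ℕ} (hp : p.Prime) (h : MinC x) (hx : orderOf x = p ^ k) :
    Group.IsNilpotent (centralizer ({x} : Set G)) := by
  haveI := Fact.mk hp
  set C := centralizer ({x} : Set G)
  refine Group.of_quotient_center_nilpotent (IsPGroup.isNilpotent (p := p) ?_)
  intro q
  induction q using QuotientGroup.induction_on with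
  | H g =>
    obtain ⟨i, m, hm, ho⟩ := Nat.exists_eq_pow_mul_and_not_dvd (orderOf_pos g).ne' p hp.ne_one
    refine ⟨i, ?_⟩
    rw [← QuotientGroup.mk_pow, QuotientGroup.eq_one_iff]
    have hco : (orderOf x).Coprime (orderOf ((g : G) ^ p ^ i)) := by
      rw [hx, orderOf_pow, Subgroup.orderOf_coe, ho, Nat.gcd_eq_right (Dvd.intro m rfl),
        Nat.mul_div_cancel_left _ (pow_pos hp.pos i)]
      exact Nat.Coprime.pow_left k ((hp.coprime_iff_not_dvd).mpr hm)
    have hc : Commute x ((g : G) ^ p ^ i) := (show Commute x (g : G) from (mem_cent.mp g.2).symm).pow_right _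
    refine mem_center_iff.mpr fun u => Subtype.ext ?_
    rw [Subgroup.coe_mul, Subgroup.coe_mul, SubmonoidClass.coe_pow]
    exact mem_cent.mp (h.le hc hco u.2)

/-- A non-trivial nilpotent normal subgroup yields a non-trivial abelian one. -/
theorem exists_abelian_normal {M : Subgroup G} [M.Normal] (hM : M ≠ ⊥) [Group.IsNilpotent M] :
    ∃ N : Subgroup G, N.Normal ∧ N ≠ ⊥ ∧ N ≤ M ∧ ∀ a ∈ N, ∀ b ∈ N, a * b = b * a := by
  haveI := (Subgroup.nontrivial_iff_ne_bot M).mpr hM
  have hne : center M ≠ ⊥ := fun e => by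
    have h := CfsgLib.inf_center_ne_bot_of_nilpotent (G := M) (N := ⊤) top_ne_bot
    rw [e, inf_bot_eq] at h
    exact h rfl
  refine ⟨(center M).map M.subtype, ConjAct.normal_of_characteristic_of_normal,
    (map_eq_bot_iff_of_injective _ M.subtype_injective).not.mpr hne, map_subtype_le _, ?_⟩
  rintro _ ⟨a, ha, rfl⟩ _ ⟨b, -, rfl⟩
  exact congrArg Subtype.val (mem_center_iff.mp ha b).symm

/-- With at most two sizes of p-regular classes there is a nilpotent p-complement. -/
theorem exists_nilpotent_complement {p : ℕ} (hp : p.Prime) {m : ℕ}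
    (h : ∀ x : G, (orderOf x).Coprime p → x ∉ center G → (centralizer ({x} : Set G)).index = m) :
    ∃ D : Subgroup G, Group.IsNilpotent D ∧ ¬ p ∣ Nat.card D ∧ ∃ k : ℕ, D.index = p ^ k := by
  haveI := Fact.mk hp
  by_cases hall : ∀ x : G, (orderOf x).Coprime p → x ∈ center G
  · let D : Subgroup G :=
      { carrier := {x | x ∈ center G ∧ (orderOf x).Coprime p}
        one_mem' := ⟨one_mem _, by rw [orderOf_one]; exact Nat.coprime_one_left p⟩
        mul_mem' := fun {u v} hu hv => ⟨mul_mem hu.1 hv.1, Nat.Coprime.coprime_dvd_left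
          ((show Commute u v from (mem_center_iff.mp hv.1 u)).orderOf_mul_dvd_lcm.trans
            (Nat.lcm_dvd_mul _ _)) (Nat.Coprime.mul_left hu.2 hv.2)⟩
        inv_mem' := fun {u} hu => ⟨inv_mem hu.1, by rw [orderOf_inv]; exact hu.2⟩ }
    have hD : D ≤ center G := fun u hu => hu.1
    have hcomm : ∀ a b : D, a * b = b * a := fun a b => Subtype.ext (mem_center_iff.mp (hD b.2) a)
    refine ⟨D, ?_, fun hd => ?_, ?_⟩
    · letI : CommGroup D := { (inferInstance : Group D) with mul_comm := hcomm }
      infer_instance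
    · obtain ⟨v, hv, ho, -⟩ := exists_orderOf_dvd hp hd
      have := hv.2
      rw [ho, Nat.coprime_self] at this
      exact hp.ne_one this
    · refine ⟨_, Nat.eq_prime_pow_of_unique_prime_dvd index_ne_zero_of_finite fun {r} hr hrd => ?_⟩
      by_contra hrp
      haveI := Fact.mk hr
      obtain ⟨R⟩ : Nonempty (Sylow r G) := inferInstance
      refine R.not_dvd_index (hrd.trans (index_dvd_of_le fun u hu => ?_))
      obtain ⟨k, hk⟩ := IsPGroup.iff_orderOf.mp R.2 ⟨u, hu⟩
      rw [Subgroup.orderOf_mk] at hk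
      have hc : (orderOf u).Coprime p := hk ▸ Nat.Coprime.pow_left k ((Nat.coprime_primes hr hp).mpr hrp)
      exact ⟨hall u hc, hc⟩
  push Not at hall
  obtain ⟨x0, hx0, hx0c⟩ := hall
  have hne : (centralizer ({x0} : Set G)).index ≠ 1 := fun e => hx0c (mem_center_iff.mpr fun g =>
    mem_cent.mp ((index_eq_one.mp e) ▸ mem_top g))
  have hm := h x0 hx0 hx0c
  have hset : (Set.range fun x : {x : G // (orderOf x).Coprime p} => (ConjClasses.mk (x : G)).carrier.ncard) =
      {1, m} := by
    ext n
    simp only [Set.mem_range, Set.mem_insert_iff, Set.mem_singleton_iff, CfsgLib.ncard_carrier_eq_index_centralizer]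
    constructor
    · rintro ⟨⟨x, hx⟩, rfl⟩
      by_cases hc : x ∈ center G
      · exact Or.inl (index_eq_one.mpr (eq_top_iff.mpr fun g _ => mem_cent.mpr (mem_center_iff.mp hc g)))
      · exact Or.inr (h x hx hc)
    · rintro (rfl | rfl)
      · exact ⟨⟨1, by rw [orderOf_one]; exact Nat.coprime_one_left p⟩,
          index_eq_one.mpr (eq_top_iff.mpr fun g _ => mem_cent.mpr (by simp))⟩
      · exact ⟨⟨x0, hx0⟩, hm⟩
  rcases Cfsg.Agent.S4033.result hp (by rw [hset, Set.ncard_pair (fun e => hne (hm.trans e.symm))]) with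
    ⟨D, hD, hDp, hDi⟩ | ⟨q, hq, P, Q, A, hqp, hA, hcard, -, hinf, htop⟩
  · refine ⟨D, ?_, hDp, hDi⟩
    letI : CommGroup D := { (inferInstance : Group D) with mul_comm := hD.is_comm.comm }
    infer_instance
  haveI := hq
  set PQ := (P : Subgroup G) ⊔ (Q : Subgroup G)
  haveI hAn : A.Normal := ⟨fun u hu g => by rw [mem_center_iff.mp (hA hu) g, mul_inv_cancel_right]; exact hu⟩
  have hG : Nat.card G = Nat.card PQ * Nat.card A := by
    refine (IsComplement'.card_mul ?_).symm
    exact isComplement'_of_disjoint_and_mul_eq_univ (disjoint_iff.mpr hinf)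
      (by rw [← Subgroup.mul_normal, htop, coe_top])
  have hpA : ¬ p ∣ Nat.card A := fun hd => by
    have h1 : Nat.card P * p ∣ Nat.card G := by
      rw [hG, hcard]
      exact mul_dvd_mul (dvd_mul_right _ _) hd
    rw [P.card_eq_multiplicity, ← pow_succ] at h1
    exact absurd ((hp.pow_dvd_iff_le_factorization Nat.card_pos.ne').mp h1) (by omega)
  have hcommQA : ∀ (u : (Q : Subgroup G)) (v : A), Commute ((Q : Subgroup G).subtype u) (A.subtype v) := fun u v =>
    mem_center_iff.mp (hA v.2) u
  let f := MonoidHom.noncommCoprod (Q : Subgroup G).subtype A.subtype hcommQA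
  have hfr : f.range = (Q : Subgroup G) ⊔ A := by
    rw [MonoidHom.noncommCoprod_range, range_subtype, range_subtype]
  have hfinj : Function.Injective f := by
    rw [injective_iff_map_eq_one]
    rintro ⟨u, v⟩ e
    have e' : (u : G) * v = 1 := e
    have hv : (v : G) ∈ PQ ⊓ A := ⟨by
      rw [eq_inv_of_mul_eq_one_right e']
      exact PQ.inv_mem (mem_sup_right u.2), v.2⟩
    rw [hinf, mem_bot] at hv
    rw [hv, mul_one] at e'
    exact Prod.ext (Subtype.ext e') (Subtype.ext hv)
  have hcD : Nat.card f.range = Nat.card Q * Nat.card A := by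
    rw [← Nat.card_congr (MonoidHom.ofInjective hfinj).toEquiv, Nat.card_prod]
  haveI : Group.IsNilpotent (Q : Subgroup G) := Q.2.isNilpotent
  haveI : Group.IsNilpotent A := by
    letI : CommGroup A := { (inferInstance : Group A) with
      mul_comm := fun u v => Subtype.ext (mem_center_iff.mp (hA v.2) u) }
    infer_instance
  refine ⟨f.range, ?_, fun hd => ?_, (Nat.card G).factorization p, ?_⟩
  · exact Group.nilpotent_of_surjective f.rangeRestrict f.rangeRestrict_surjective
  · rw [hcD] at hd
    rcases hp.dvd_mul.mp hd with e | e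
    · rw [Q.card_eq_multiplicity] at e
      exact hqp ((Nat.prime_dvd_prime_iff_eq hp hq.out).mp (hp.dvd_of_dvd_pow e)).symm
    · exact hpA e
  · refine Nat.eq_of_mul_eq_mul_left (Nat.card_pos (α := f.range)) ?_
    rw [card_mul_index, hcD, ← P.card_eq_multiplicity, hG, hcard]
    ring

/-- A group with a nilpotent p-complement is solvable. -/
theorem isSolvable_of_complement {p : ℕ} (hp : p.Prime) {D : Subgroup G} (hn : Group.IsNilpotent D)
    (hd : ¬ p ∣ Nat.card D) {k : ℕ} (hi : D.index = p ^ k) {S : Subgroup G} (hS : IsPGroup p S)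
    (hfull : p ^ (Nat.card G).factorization p ∣ Nat.card S) : Group.IsSolvable G := by
  haveI := Fact.mk hp
  haveI : Group.IsNilpotent S := hS.isNilpotent
  obtain ⟨j, hj⟩ := hS.exists_card_eq
  have hco : (Nat.card D).Coprime (Nat.card S) := by
    rw [hj]
    exact Nat.Coprime.pow_right _ ((hp.coprime_iff_not_dvd.mpr hd).symm)
  have hcard : Nat.card D * Nat.card S = Nat.card G := by
    refine Nat.dvd_antisymm (hco.mul_dvd_of_dvd_of_dvd (card_subgroup_dvd_card D) (card_subgroup_dvd_card S)) ?_
    rw [← D.card_mul_index, hi]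
    refine mul_dvd_mul_left _ ((Nat.pow_dvd_pow p ?_).trans hfull)
    exact (hp.pow_dvd_iff_le_factorization Nat.card_pos.ne').mp (hi ▸ D.index_dvd_card)
  refine Cfsg.Agent.S0564.result D S hn inferInstance fun g => ?_
  obtain ⟨⟨⟨u, hu⟩, ⟨v, hv⟩⟩, e⟩ := (isComplement'_of_coprime hcard hco).2 g
  exact ⟨u, hu, v, hv, e.symm⟩

end CfsgLib.ConjRankThree
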