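import Mathlib
import Cfsg.Prelude
import Cfsg.Agent.Lib.Elementary
import Cfsg.Agent.Lib.KazarinSolvable

set_option autoImplicit false

/-!
Elementary lemmas on the orders of centralizers in a finite group with trivial centre.
-/

namespace CfsgLib.ConjRankThree

open Subgroup

universe u

variable {G : Type u} [Group G]

/-- The order of the centralizer. -/
noncomputable def cc (x : G) : ℕ := Nat.card (centralizer ({x} : Set G))

theorem mem_cent {x y : G} : y ∈ centralizer ({x} : Set G) ↔ y * x = x * y :=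
  mem_centralizer_singleton_iff

theorem self_mem (x : G) : x ∈ centralizer ({x} : Set G) := mem_cent.mpr rfl

theorem mem_cent_symm {x y : G} (h : y ∈ centralizer ({x} : Set G)) : x ∈ centralizer ({y} : Set G) :=
  mem_cent.mpr (mem_cent.mp h).symm

theorem cent_le_pow (x : G) (n : ℕ) : centralizer ({x} : Set G) ≤ centralizer ({x ^ n} : Set G) :=
  fun _ hy => mem_cent.mpr ((show Commute _ x from mem_cent.mp hy).pow_right n).eq

theorem cent_mul_le (x y : G) : centralizer ({x} : Set G) ⊓ centralizer ({y} : Set G) ≤ centralizer ({x * y} : Set G) :=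
  fun _ ⟨h1, h2⟩ => mem_cent.mpr ((show Commute _ x from mem_cent.mp h1).mul_right (mem_cent.mp h2)).eq

theorem cc_conj (g x : G) : cc (g * x * g⁻¹) = cc x := by
  refine (Nat.card_congr ((MulAut.conj g).toEquiv.subtypeEquiv fun z => ?_)).symm
  simp only [mem_cent]
  show _ ↔ g * z * g⁻¹ * (g * x * g⁻¹) = g * x * g⁻¹ * (g * z * g⁻¹)
  rw [show g * z * g⁻¹ * (g * x * g⁻¹) = g * (z * x) * g⁻¹ by group,
    show g * x * g⁻¹ * (g * z * g⁻¹) = g * (x * z) * g⁻¹ by group]
  exact ⟨fun h => by rw [h], fun h => mul_left_cancel (mul_right_cancel h)⟩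

variable [Finite G]

theorem cc_pos (x : G) : 0 < cc x := Nat.card_pos

theorem cc_dvd (x : G) : cc x ∣ Nat.card G := card_subgroup_dvd_card _

theorem cc_le_of_le {x y : G} (h : centralizer ({x} : Set G) ≤ centralizer ({y} : Set G)) : cc x ∣ cc y :=
  card_dvd_of_le h

theorem orderOf_dvd_cc {x y : G} (h : y ∈ centralizer ({x} : Set G)) : orderOf y ∣ cc x :=
  Subgroup.orderOf_dvd_natCard _ h

theorem mul_cent {x y : G} (h : Commute x y) (hco : (orderOf x).Coprime (orderOf y)) :
    centralizer ({x * y} : Set G) = centralizer ({x} : Set G) ⊓ centralizer ({y} : Set G) := by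
  refine le_antisymm ?_ (cent_mul_le x y)
  have key : ∀ u v : G, Commute u v → (orderOf u).Coprime (orderOf v) →
      centralizer ({u * v} : Set G) ≤ centralizer ({u} : Set G) := by
    intro u v huv hco
    have e : (u * v) ^ orderOf v = u ^ orderOf v := by rw [huv.mul_pow, pow_orderOf_eq_one, mul_one]
    obtain ⟨n, hn⟩ := exists_pow_eq_self_of_coprime (x := u) hco.symm
    intro g hg
    have h1 := cent_le_pow _ n (cent_le_pow _ (orderOf v) hg)
    rwa [e, hn] at h1
  refine le_inf (key x y h hco) ?_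
  have := key y x h.symm hco.symm
  rwa [← h.eq] at this

theorem exists_primary {x : G} (hx : x ≠ 1) :
    ∃ n p : ℕ, p.Prime ∧ x ^ n ≠ 1 ∧ ∃ k, orderOf (x ^ n) = p ^ k := by
  obtain ⟨p, hp, hd⟩ := Nat.exists_prime_and_dvd (n := orderOf x) (fun h => hx (orderOf_eq_one_iff.mp h))
  haveI : Fact p.Prime := ⟨hp⟩
  have ho : orderOf (x ^ (orderOf x / p)) = p := orderOf_pow_orderOf_div (orderOf_pos x).ne' hd
  refine ⟨orderOf x / p, p, hp, fun e => ?_, 1, by rw [ho, pow_one]⟩
  rw [e, orderOf_one] at ho
  exact hp.one_lt.ne ho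

/-- A central element of a Sylow subgroup containing a given element. -/
theorem exists_central_sylow {r : ℕ} [Fact r.Prime] (hr : r ∣ Nat.card G) (R : Sylow r G) :
    ∃ z : G, z ≠ 1 ∧ (∃ k, orderOf z = r ^ k) ∧ z ∈ (R : Subgroup G) ∧
      (R : Subgroup G) ≤ centralizer ({z} : Set G) := by
  haveI : Nontrivial (R : Subgroup G) := by
    rw [← Finite.one_lt_card_iff_nontrivial, R.card_eq_multiplicity]
    exact Nat.one_lt_pow ((Fact.out : r.Prime).factorization_pos_of_dvd Nat.card_pos.ne' hr).ne'
      (Fact.out : r.Prime).one_lt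
  haveI := R.2.center_nontrivial
  obtain ⟨⟨w, hw⟩, hne⟩ := exists_ne (1 : center (R : Subgroup G))
  obtain ⟨k, hk⟩ := R.2 w
  obtain ⟨j, -, hj⟩ := (Nat.dvd_prime_pow (Fact.out : r.Prime)).mp
    (show orderOf (w : G) ∣ r ^ k from orderOf_dvd_of_pow_eq_one (congrArg Subtype.val hk))
  refine ⟨(w : G), fun e => hne (Subtype.ext (Subtype.ext e)), ⟨j, hj⟩, w.2, fun g hg => mem_cent.mpr ?_⟩
  exact congrArg Subtype.val (mem_center_iff.mp hw ⟨g, hg⟩)

/-- The order of a Sylow subgroup as a divisor. -/
theorem sylow_dvd_of_le {r : ℕ} [Fact r.Prime] (R : Sylow r G) {x : G}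
    (h : (R : Subgroup G) ≤ centralizer ({x} : Set G)) : r ^ (Nat.card G).factorization r ∣ cc x := by
  rw [← R.card_eq_multiplicity]
  exact card_dvd_of_le h

theorem exists_sylow_le {r : ℕ} [Fact r.Prime] (R : Sylow r G) {x : G}
    (h : r ^ (Nat.card G).factorization r ∣ cc x) :
    ∃ g : G, (R : Subgroup G) ≤ centralizer ({g * x * g⁻¹} : Set G) := by
  obtain ⟨P, hP⟩ := Sylow.exists_subgroup_card_pow_prime r
    (G := centralizer ({x} : Set G)) (n := (Nat.card G).factorization r) h
  have hc : Nat.card (P.map (centralizer ({x} : Set G)).subtype) = r ^ (Nat.card G).factorization r := by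
    rw [Nat.card_congr (P.equivMapOfInjective _ (subtype_injective _)).symm.toEquiv, hP]
  let P' : Sylow r G := Sylow.ofCard _ hc
  obtain ⟨g, hg⟩ := MulAction.exists_smul_eq G P' R
  refine ⟨g, fun u hu => ?_⟩
  rw [← hg, Sylow.coe_subgroup_smul] at hu
  obtain ⟨v, hv, rfl⟩ := Subgroup.mem_map.mp hu
  have hv' : v * x = x * v := mem_cent.mp (map_subtype_le P hv)
  rw [mem_cent]
  show g * v * g⁻¹ * (g * x * g⁻¹) = g * x * g⁻¹ * (g * v * g⁻¹)
  rw [show g * v * g⁻¹ * (g * x * g⁻¹) = g * (v * x) * g⁻¹ by group, hv']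
  group

theorem exists_sylow_of_mem {r : ℕ} [Fact r.Prime] {x : G} (h : ∃ k, orderOf x = r ^ k) :
    ∃ R : Sylow r G, x ∈ (R : Subgroup G) := by
  obtain ⟨k, hk⟩ := h
  have hp : IsPGroup r (zpowers x) := IsPGroup.of_card (n := k) (by rw [Nat.card_zpowers, hk])
  obtain ⟨R, hR⟩ := hp.exists_le_sylow
  exact ⟨R, hR (mem_zpowers x)⟩

theorem coprime_of_not_eq {x y : G} {p q : ℕ} (hp : p.Prime) (hq : q.Prime) (hpq : p ≠ q)
    (hx : ∃ k, orderOf x = p ^ k) (hy : ∃ k, orderOf y = q ^ k) : (orderOf x).Coprime (orderOf y) := by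
  obtain ⟨k, hk⟩ := hx
  obtain ⟨l, hl⟩ := hy
  rw [hk, hl]
  exact Nat.Coprime.pow _ _ ((Nat.coprime_primes hp hq).mpr hpq)

/-- Two subgroups of coprime index multiply to the group. -/
theorem exists_factor (H K : Subgroup G) (hco : H.index.Coprime K.index) (g : G) :
    ∃ a ∈ H, ∃ c ∈ K, g = a * c := by
  let f : H ⧸ K.subgroupOf H → G ⧸ K := Quotient.map' Subtype.val fun a b h => by
    rw [QuotientGroup.leftRel_apply] at h ⊢
    simpa [mem_subgroupOf] using h
  have hinj : Function.Injective f := by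
    rintro ⟨a⟩ ⟨b⟩ h
    exact QuotientGroup.eq.mpr (by simpa [mem_subgroupOf] using QuotientGroup.eq.mp h)
  have h1 : H.index ∣ (H ⊓ K).index := index_dvd_of_le inf_le_left
  have h2 : K.index ∣ (H ⊓ K).index := index_dvd_of_le inf_le_right
  have h3 : K.relIndex H * H.index = (H ⊓ K).index := by
    rw [← relIndex_mul_index (inf_le_left : H ⊓ K ≤ H), inf_relIndex_left]
  have h4 : H.index * K.index ≤ (H ⊓ K).index :=
    Nat.le_of_dvd (Nat.pos_of_ne_zero index_ne_zero_of_finite) (hco.mul_dvd_of_dvd_of_dvd h1 h2)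
  have h5 : Nat.card (G ⧸ K) ≤ Nat.card (H ⧸ K.subgroupOf H) := by
    show K.index ≤ K.relIndex H
    rw [← h3, mul_comm (K.relIndex H)] at h4
    exact Nat.le_of_mul_le_mul_left h4 (Nat.pos_of_ne_zero index_ne_zero_of_finite)
  obtain ⟨q, hq⟩ := ((Nat.bijective_iff_injective_and_card f).mpr
    ⟨hinj, le_antisymm (Nat.card_le_card_of_injective f hinj) h5⟩).2 (g : G ⧸ K)
  induction q using QuotientGroup.induction_on with
  | H a => exact ⟨a, a.2, (a : G)⁻¹ * g, QuotientGroup.eq.mp hq, (mul_inv_cancel_left _ _).symm⟩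

/-- The element is not the identity and no centralizer order properly divides that of its centralizer. -/
def MinC (x : G) : Prop := x ≠ 1 ∧ ∀ y : G, y ≠ 1 → cc y ∣ cc x → cc y = cc x

theorem mul_ne_one_of_coprime {u v : G} (hu : u ≠ 1) (hco : (orderOf u).Coprime (orderOf v)) : u * v ≠ 1 := fun e => by
  rw [(inv_eq_of_mul_eq_one_right e).symm, orderOf_inv, Nat.coprime_self] at hco
  exact hu (orderOf_eq_one_iff.mp hco)

/-- A minimal centralizer lies in that of each commuting element of coprime order. -/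
theorem MinC.le {x y : G} (h : MinC x) (hc : Commute x y) (hco : (orderOf x).Coprime (orderOf y)) :
    centralizer ({x} : Set G) ≤ centralizer ({y} : Set G) := by
  have hmul := mul_cent hc hco
  have e := h.2 _ (mul_ne_one_of_coprime h.1 hco) (cc_le_of_le (hmul.le.trans inf_le_left))
  have h1 : centralizer ({x * y} : Set G) = centralizer ({x} : Set G) :=
    eq_of_le_of_card_ge (hmul.le.trans inf_le_left) e.ge
  exact h1.ge.trans (hmul.le.trans inf_le_right)

/-- The centre is trivial. -/
class Centerless (G : Type u) [Group G] : Prop where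
  center_eq : center G = ⊥

/-- No two non-trivial normal subgroups commute elementwise. -/
class Mono (G : Type u) [Group G] : Prop where
  eq_bot : ∀ A B : Subgroup G, A.Normal → B.Normal → (∀ a ∈ A, ∀ b ∈ B, a * b = b * a) → A = ⊥ ∨ B = ⊥

instance centerless_of_mono {G : Type u} [Group G] [Mono G] : Centerless G :=
  ⟨(Mono.eq_bot (center G) (center G) inferInstance inferInstance
    (fun a _ b hb => mem_center_iff.mp hb a)).elim id id⟩

theorem mono_of_simple {G : Type u} [Group G] [IsSimpleGroup G] (hna : ¬ IsMulCommutative G) : Mono G :=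
  ⟨fun A B hA hB h => by
    rcases hA.eq_bot_or_eq_top with e | e
    · exact Or.inl e
    rcases hB.eq_bot_or_eq_top with e' | e'
    · exact Or.inr e'
    exact absurd ⟨⟨fun a b => h a (e ▸ mem_top a) b (e' ▸ mem_top b)⟩⟩ hna⟩

section Centreless

variable [Centerless G]

theorem cent_ne_top {x : G} (hx : x ≠ 1) : centralizer ({x} : Set G) ≠ ⊤ := by
  intro h
  have hc : x ∈ center G := mem_center_iff.mpr fun g => mem_cent.mp (h ▸ mem_top g)
  rw [Centerless.center_eq, mem_bot] at hc
  exact hx hc

theorem cc_lt {x : G} (hx : x ≠ 1) : cc x < Nat.card G :=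
  lt_of_le_of_ne (Finite.card_subtype_le _) fun e => cent_ne_top hx (eq_top_of_card_eq _ e)

end Centreless

/-- Conjugates of an element lie in the centralizer of each element commuting with it and of coprime class size. -/
theorem conj_mem_of_coprime_index {y w : G}
    (hco : (centralizer ({y} : Set G)).index.Coprime (centralizer ({w} : Set G)).index)
    (hc : y * w = w * y) (g : G) : g * y * g⁻¹ ∈ centralizer ({w} : Set G) := by
  obtain ⟨a, ha, c, hcy, rfl⟩ := exists_factor _ _ hco.symm g
  have e : a * c * y * (a * c)⁻¹ = a * y * a⁻¹ := by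
    rw [mul_assoc a c y, mem_cent.mp hcy]
    group
  rw [e]
  exact mul_mem (mul_mem ha (mem_cent.mpr hc)) (inv_mem ha)

section Monolithic

variable [Mono G]

theorem class_cent_absurd {x t : G} (hx : x ≠ 1) (ht : t ≠ 1)
    (h : ∀ g : G, g * x * g⁻¹ ∈ centralizer ({t} : Set G)) : False := by
  have hA : ∀ a ∈ normalClosure ({x} : Set G), ∀ g : G, a * (g * t * g⁻¹) = g * t * g⁻¹ * a := by
    intro a ha g
    have hle : normalClosure ({x} : Set G) ≤ centralizer ({t} : Set G) := (closure_le _).mpr fun y hy => by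
      obtain ⟨u, hu, huy⟩ := Group.mem_conjugatesOfSet_iff.mp hy
      rw [Set.mem_singleton_iff.mp hu] at huy
      obtain ⟨c, rfl⟩ := isConj_iff.mp huy
      exact h c
    have e := mem_cent.mp (hle ((normalClosure_normal (s := ({x} : Set G))).conj_mem a ha g⁻¹))
    rw [inv_inv] at e
    calc a * (g * t * g⁻¹) = g * (g⁻¹ * a * g * t) * g⁻¹ := by group
      _ = g * (t * (g⁻¹ * a * g)) * g⁻¹ := by rw [e]
      _ = _ := by group
  have hAB : ∀ a ∈ normalClosure ({x} : Set G), ∀ b ∈ normalClosure ({t} : Set G), a * b = b * a := by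
    intro a ha b hb
    have hle : normalClosure ({t} : Set G) ≤ centralizer ({a} : Set G) := (closure_le _).mpr fun y hy => by
      obtain ⟨u, hu, huy⟩ := Group.mem_conjugatesOfSet_iff.mp hy
      rw [Set.mem_singleton_iff.mp hu] at huy
      obtain ⟨c, rfl⟩ := isConj_iff.mp huy
      exact mem_cent.mpr (hA a ha c).symm
    exact (mem_cent.mp (hle hb)).symm
  rcases Mono.eq_bot _ _ normalClosure_normal normalClosure_normal hAB with e | e
  · exact hx (mem_bot.mp (e ▸ subset_normalClosure (Set.mem_singleton x)))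
  · exact ht (mem_bot.mp (e ▸ subset_normalClosure (Set.mem_singleton t)))

theorem abelian_normal_absurd {N : Subgroup G} [hN : N.Normal] (h : ∀ a ∈ N, ∀ b ∈ N, a * b = b * a)
    (hne : N ≠ ⊥) : False :=
  hne ((Mono.eq_bot N N hN hN h).elim id id)

theorem solvable_normal_absurd {N : Subgroup G} [N.Normal] (hs : Group.IsSolvable N) (hne : N ≠ ⊥) : False := by
  obtain ⟨M, hM, hMN, hM0, hmin⟩ := CfsgLib.exists_minimal_normal hne
  haveI := hM
  have hMs : Group.IsSolvable M :=
    Group.isSolvable_of_isSolvable_injective (f := inclusion hMN) (inclusion_injective hMN)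
  refine abelian_normal_absurd (N := M) (fun a ha b hb => ?_) hM0
  exact congrArg Subtype.val ((CfsgLib.minimal_normal_elementary hM0 hMs hmin).1.is_comm.comm ⟨a, ha⟩ ⟨b, hb⟩)

/-- Conjugates of a non-identity element do not all commute. -/
theorem class_comm_absurd {x : G} (hx : x ≠ 1)
    (h : ∀ g : G, g * x * g⁻¹ * x = x * (g * x * g⁻¹)) : False :=
  class_cent_absurd hx hx fun g => mem_cent.mpr (h g)

theorem index_not_primePow {x : G} (hx : x ≠ 1) {p k : ℕ} (hp : p.Prime) :
    Nat.card G ≠ cc x * p ^ k := by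
  intro h
  have hi : (centralizer ({x} : Set G)).index = p ^ k := by
    have := (centralizer ({x} : Set G)).card_mul_index
    rw [h] at this
    exact Nat.eq_of_mul_eq_mul_left (cc_pos x) this
  refine solvable_normal_absurd (CfsgLib.Kazarin.isSolvable_normalClosure hp x hi) fun e => hx ?_
  exact mem_bot.mp (e ▸ subset_normalClosure (Set.mem_singleton x))

/-- Elements whose centralizers have coprime indices never commute. -/
theorem not_commute_of_coprime_index {y w : G} (hy : y ≠ 1) (hw : w ≠ 1)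
    (hco : (centralizer ({y} : Set G)).index.Coprime (centralizer ({w} : Set G)).index) :
    y * w ≠ w * y := fun hc => class_cent_absurd hy hw (conj_mem_of_coprime_index hco hc)

end Monolithic

end CfsgLib.ConjRankThree
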