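import Cfsg.Agent.Lib.ConjRankThree.Inverter
import Cfsg.Agent.S0199

set_option autoImplicit false

/-!
The case where the smallest order lacks the full 2-part of the group order.
-/

namespace CfsgLib.ConjRankThree

open Subgroup

universe u

variable {G : Type u} [Group G] [Finite G] [Mono G] {a b c : ℕ}

namespace Chain

theorem exists_inverted (h : Chain G a b c) {z : G} (hz : orderOf z = 2) :
    ∃ x : G, x * x ≠ 1 ∧ Odd (orderOf x) ∧ z * x * z⁻¹ = x⁻¹ := by
  haveI : Fact (Nat.Prime 2) := ⟨Nat.prime_two⟩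
  have hz2 := Involutions.mul_self_eq_one_of_orderOf hz
  by_contra hcon
  push Not at hcon
  have hpow : ∀ g : G, ∃ k, orderOf (z * (g * z * g⁻¹)) = 2 ^ k := by
    intro g
    set q := z * (g * z * g⁻¹)
    refine ⟨_, Nat.eq_prime_pow_of_unique_prime_dvd (orderOf_pos q).ne' fun {p} hp hd => ?_⟩
    by_contra hp2
    haveI := Fact.mk hp
    have ho : orderOf (q ^ (orderOf q / p)) = p := orderOf_pow_orderOf_div (orderOf_pos q).ne' hd
    refine hcon (q ^ (orderOf q / p)) (fun e => hp2 ?_) (by rw [ho]; exact hp.odd_of_ne_two hp2) ?_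
    · have h2 : p ∣ 2 := ho ▸ orderOf_dvd_of_pow_eq_one (by rw [pow_two]; exact e)
      exact (Nat.prime_dvd_prime_iff_eq hp Nat.prime_two).mp h2
    · have hy2 := Involutions.mul_self_eq_one_of_orderOf ((Involutions.orderOf_conj g z).trans hz)
      rw [← conj_pow, Involutions.conj_mul_eq_inv hz2 hy2, inv_pow]
  obtain ⟨N, hN, hNp, hle⟩ := Cfsg.Agent.S0199.result (p := 2) (zpowers z)
    (IsPGroup.of_card (n := 1) (by rw [Nat.card_zpowers, hz, pow_one])) (fun g => by
      have hy2 := Involutions.mul_self_eq_one_of_orderOf ((Involutions.orderOf_conj g z).trans hz)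
      have hsub : zpowers z ⊔ (zpowers z).map (MulAut.conj g).toMonoidHom ≤ closure {z, g * z * g⁻¹} := by
        refine sup_le (zpowers_le.mpr (subset_closure (Or.inl rfl))) ?_
        rw [MonoidHom.map_zpowers, zpowers_le]
        exact subset_closure (Or.inr rfl)
      refine IsPGroup.to_le ?_ hsub
      intro d
      obtain ⟨k, hk⟩ := hpow g
      obtain ⟨i, hi | hi⟩ := Involutions.mem_closure_pair hz2 hy2 d.2
      · refine ⟨k, Subtype.ext ?_⟩
        rw [SubmonoidClass.coe_pow, OneMemClass.coe_one, hi, ← hk, ← zpow_natCast, ← zpow_mul, mul_comm i,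
          zpow_mul, zpow_natCast, pow_orderOf_eq_one, one_zpow]
      · refine ⟨1, Subtype.ext ?_⟩
        rw [SubmonoidClass.coe_pow, OneMemClass.coe_one, hi, pow_one, pow_two]
        set r := (z * (g * z * g⁻¹)) ^ i
        have hzr : z * r * z⁻¹ = r⁻¹ := by
          rw [Involutions.conj_zpow_eq_inv hz2 hy2, zpow_neg]
        calc z * r * (z * r) = (z * r * z⁻¹) * (z * z) * r := by group
          _ = 1 := by rw [hzr, hz2]; group)
  haveI := hN
  haveI := hNp.isNilpotent
  refine solvable_normal_absurd (N := N) inferInstance fun e => ?_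
  have : z = 1 := mem_bot.mp (e ▸ hle (mem_zpowers z))
  rw [this, orderOf_one] at hz
  omega

theorem not_caseB (h : Chain G a b c) (heven : 2 ∣ Nat.card G) (hA : ¬ 2 ^ (Nat.card G).factorization 2 ∣ a) :
    False := by
  haveI : Fact (Nat.Prime 2) := ⟨Nat.prime_two⟩
  classical
  haveI := Fintype.ofFinite G
  obtain ⟨z0, hz01, ⟨k0, hk0⟩, -, hR⟩ := exists_central_sylow heven (default : Sylow 2 G)
  have hd : 2 ∣ orderOf z0 := by
    rw [hk0]
    refine dvd_pow_self 2 fun e => hz01 (orderOf_eq_one_iff.mp ?_)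
    rw [hk0, e, pow_zero]
  set z := z0 ^ (orderOf z0 / 2)
  have hz : orderOf z = 2 := orderOf_pow_orderOf_div (orderOf_pos z0).ne' hd
  have hz1 : z ≠ 1 := fun e => by rw [e, orderOf_one] at hz; omega
  have hz2 := Involutions.mul_self_eq_one_of_orderOf hz
  have hfull : 2 ^ (Nat.card G).factorization 2 ∣ cc z := sylow_dvd_of_le _ (hR.trans (cent_le_pow z0 _))
  have hzb : cc z = b := by
    rcases h.val z hz1 with e | e | e
    · exact absurd (e ▸ hfull) hA
    · exact e
    · exact absurd e (h.cc_invol_ne_c hz)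
  obtain ⟨w, hw, hwc⟩ := h.exC
  set S := h.reg hw hwc hz1 hzb with hS
  obtain ⟨g0, hg0, hg0c⟩ := exists_commuting_conj hz
  have hMmem : ∀ g : G, g ∈ S.M ↔ g * z * g⁻¹ = z := fun g => by
    rw [mul_inv_eq_iff_eq_mul]; exact mem_cent
  rcases S.pair_cases with hconst | hinj
  · refine class_comm_absurd hz1 fun g => ?_
    by_cases hg : g ∈ S.M
    · rw [(hMmem g).mp hg]
    obtain ⟨p, hp, hq⟩ := hconst g0 g (fun e => hg0 ((hMmem g0).mp e)) hg
    have e : g * z * g⁻¹ = p * (g0 * z * g0⁻¹) * p⁻¹ := by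
      calc g * z * g⁻¹ = g * (g⁻¹ * p * g0 * z * (g⁻¹ * p * g0)⁻¹) * g⁻¹ := by rw [(hMmem _).mp hq]
        _ = _ := by group
    have hz' : p * z * p⁻¹ = z := (hMmem p).mp hp
    calc g * z * g⁻¹ * z = p * (g0 * z * g0⁻¹) * p⁻¹ * (p * z * p⁻¹) := by rw [e, hz']
      _ = p * (g0 * z * g0⁻¹ * z) * p⁻¹ := by group
      _ = p * (z * (g0 * z * g0⁻¹)) * p⁻¹ := by rw [hg0c.eq]
      _ = p * z * p⁻¹ * (p * (g0 * z * g0⁻¹) * p⁻¹) := by group
      _ = z * (g * z * g⁻¹) := by rw [hz', e]
  -- the inverted element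
  obtain ⟨x, hx2, hxodd, hzx⟩ := h.exists_inverted hz
  have hx1 : x ≠ 1 := fun e => hx2 (by rw [e, mul_one])
  obtain ⟨n, hn⟩ := hxodd
  set v := x ^ (n + 1)
  have hvx : v * v = x := by
    rw [← pow_add, show n + 1 + (n + 1) = orderOf x + 1 by omega, pow_succ, pow_orderOf_eq_one, one_mul]
  have hzv : z * v * z⁻¹ = v⁻¹ := by rw [← conj_pow, hzx, inv_pow]
  have hg1e : v⁻¹ * z * v⁻¹⁻¹ = z * x := by
    rw [inv_inv, ← hvx, ← hzv]; group
  have hxc : cc x ≠ c := fun e => h.no_inverter_b hx1 e hz hzb (h.normalizes hx1 e (self_mem x) hx1 hzx)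
  have hxb : cc x ≠ b := fun e => not_real (by rw [e, ← hzb]; exact hfull) hx2 hzx
  have hxa : cc x = a := by
    rcases h.val x hx1 with e | e | e
    · exact e
    · exact absurd e hxb
    · exact absurd e hxc
  have hg1 : v⁻¹ ∉ S.M := fun e => by
    have h1 := (hMmem _).mp e
    rw [hg1e] at h1
    exact hx1 (mul_eq_left.mp h1)
  set D := S.M ⊓ S.M.comap (MulAut.conj v⁻¹⁻¹).toMonoidHom with hD
  have hDe : Nat.card D * S.e = b := (hinj v⁻¹ hg1).trans hzb
  have hDle : D ≤ centralizer ({x} : Set G) ⊓ centralizer ({z} : Set G) := by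
    rintro d ⟨hd1, hd2⟩
    refine ⟨?_, hd1⟩
    have hd2' : v * d * v⁻¹ ∈ centralizer ({z} : Set G) := by
      have := hd2
      simp at this
      exact this
    have e1 : d * z = z * d := mem_cent.mp hd1
    have e2 : d * (z * x) = z * x * d := by
      rw [← hg1e]
      calc d * (v⁻¹ * z * v⁻¹⁻¹) = v⁻¹ * (v * d * v⁻¹ * z) * v := by group
        _ = v⁻¹ * (z * (v * d * v⁻¹)) * v := by rw [mem_cent.mp hd2']
        _ = _ := by group
    refine mem_cent.mpr (mul_left_cancel (a := z) ?_)
    calc z * (d * x) = z * d * x := by group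
      _ = d * (z * x) := by rw [← e1]; group
      _ = z * (x * d) := by rw [e2]; group
  have hDa : Nat.card D ∣ a := hxa ▸ card_dvd_of_le (hDle.trans inf_le_left)
  have hlt : centralizer ({x} : Set G) ⊓ centralizer ({z} : Set G) < centralizer ({x} : Set G) := by
    refine lt_of_le_of_ne inf_le_left fun e => hx2 ?_
    have := mem_cent.mp ((e.ge.trans inf_le_right) (self_mem x))
    rw [← this, mul_inv_cancel_right] at hzx
    nth_rewrite 2 [hzx]
    exact mul_inv_cancel x
  have h2D : 2 * Nat.card D ≤ a := by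
    obtain ⟨q, hq⟩ := card_dvd_of_le (inf_le_left : centralizer ({x} : Set G) ⊓ centralizer ({z} : Set G) ≤ _)
    rw [show Nat.card (centralizer ({x} : Set G)) = a from hxa] at hq
    have h1 := Nat.le_of_dvd Nat.card_pos (card_dvd_of_le hDle)
    have hq2 : 2 ≤ q := by
      by_contra hq'
      have : a ≤ Nat.card (centralizer ({x} : Set G) ⊓ centralizer ({z} : Set G) : Subgroup G) := by
        rw [hq]
        calc _ ≤ Nat.card (centralizer ({x} : Set G) ⊓ centralizer ({z} : Set G) : Subgroup G) * 1 :=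
              Nat.mul_le_mul_left _ (by omega)
          _ = _ := mul_one _
      exact hlt.ne (eq_of_le_of_card_ge inf_le_left (le_of_eq_of_le hxa this))
    rw [hq]
    calc 2 * Nat.card D ≤ 2 * Nat.card (centralizer ({x} : Set G) ⊓ centralizer ({z} : Set G) : Subgroup G) :=
          Nat.mul_le_mul_left 2 h1
      _ ≤ _ := by rw [mul_comm 2]; exact Nat.mul_le_mul_left _ hq2
  have heEven : 2 ∣ S.e := by
    by_contra hodd
    refine hA ((Nat.Coprime.dvd_of_dvd_mul_right ?_ (hDe.symm ▸ hzb ▸ hfull)).trans hDa)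
    exact Nat.Coprime.pow_left _ ((Nat.coprime_primes Nat.prime_two Nat.prime_two |> fun _ =>
      (Nat.prime_two.coprime_iff_not_dvd).mpr hodd))
  -- an involution in the normalizer
  have hNcard : Nat.card S.N = c * S.e := S.card_N.trans (by rw [show Nat.card S.W = c from hwc])
  obtain ⟨⟨u, hun⟩, huo⟩ := exists_prime_orderOf_dvd_card' (G := S.N) 2 (hNcard ▸ heEven.mul_left c)
  rw [← Subgroup.orderOf_coe] at huo
  simp only at huo
  have hu1 : u ≠ 1 := fun e => by rw [e, orderOf_one] at huo; omega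
  have hu2 := Involutions.mul_self_eq_one_of_orderOf huo
  have hua : cc u = a := by
    rcases h.val u hu1 with e | e | e
    · exact e
    · exact (h.no_inverter_b hw hwc huo e hun).elim
    · exact absurd e (h.cc_invol_ne_c huo)
  obtain ⟨g, hg⟩ : ∃ g : G, g⁻¹ * u * g ∈ S.M := by
    have hp : IsPGroup 2 (zpowers u) := IsPGroup.of_card (n := 1) (by rw [Nat.card_zpowers, huo, pow_one])
    obtain ⟨q, hq⟩ := hp.nonempty_fixed_point_of_prime_not_dvd_card (G ⧸ S.M)
      (by rw [S.card_X, show Nat.card S.W = c from hwc]; exact h.c_odd)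
    induction q using QuotientGroup.induction_on with
    | H g =>
      refine ⟨g, ?_⟩
      have := QuotientGroup.eq.mp (hq ⟨u, mem_zpowers u⟩).symm
      simpa [mul_assoc] using this
  set y := g * z * g⁻¹
  have hy : orderOf y = 2 := (Involutions.orderOf_conj g z).trans hz
  have huy : u * y = y * u := by
    have hg' := mem_cent.mp hg
    show u * (g * z * g⁻¹) = g * z * g⁻¹ * u
    calc u * (g * z * g⁻¹) = g * (g⁻¹ * u * g * z) * g⁻¹ := by group
      _ = g * (z * (g⁻¹ * u * g)) * g⁻¹ := by rw [hg']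
      _ = _ := by group
  have hyN : y ∉ S.N := fun e => by
    obtain ⟨-, p, -, hpe⟩ := h.conj_inverter hw hwc huo hun hy e
    have : cc y = cc u := by rw [hpe, cc_conj]
    rw [cc_conj, hzb, hua] at this
    exact h.hlt.ne this.symm
  -- counting
  let U := {t : G // ∃ p : G, p * u * p⁻¹ = t}
  let Fx : G → Type u := fun t => {q : G ⧸ S.N // t • q = q}
  have hconjFx : ∀ t : U, Nat.card (Fx t.1) = Nat.card (Fx u) := by
    rintro ⟨t, p, rfl⟩
    refine (Nat.card_congr ((MulAction.toPerm p).subtypeEquiv fun q => ?_)).symm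
    simp only [MulAction.toPerm_apply]
    rw [← mul_smul, show p * u * p⁻¹ * p = p * u by group, mul_smul]
    exact smul_left_cancel_iff p |>.symm
  set k := Nat.card (Fx u)
  have hk : 2 ≤ k := by
    haveI : Nontrivial (Fx u) := by
      refine ⟨⟨⟨((1 : G) : G ⧸ S.N), ?_⟩, ⟨(y : G ⧸ S.N), ?_⟩, fun e => hyN ?_⟩⟩
      · refine QuotientGroup.eq.mpr ?_
        simpa using inv_mem hun
      · refine QuotientGroup.eq.mpr ?_
        show (u * y)⁻¹ * y ∈ S.N
        rw [show (u * y)⁻¹ * y = u⁻¹ by rw [huy]; group]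
        exact inv_mem hun
      · simpa using QuotientGroup.eq.mp (congrArg Subtype.val e)
    exact Finite.one_lt_card
  haveI : Fintype U := Fintype.ofFinite U
  haveI : Fintype (G ⧸ S.N) := Fintype.ofFinite _
  have hU : Nat.card U * a = b * c := by
    rw [h.mul_eq, ← hua, ← Subgroup.card_mul_index (centralizer ({u} : Set G)), mul_comm, cc]
    congr 1
    let f : G ⧸ centralizer ({u} : Set G) → U := Quotient.lift (fun p => ⟨p * u * p⁻¹, p, rfl⟩) (fun p q hpq => by
      have := mem_cent.mp (QuotientGroup.leftRel_apply.mp hpq)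
      refine Subtype.ext ?_
      show p * u * p⁻¹ = q * u * q⁻¹
      calc p * u * p⁻¹ = p * ((u * (p⁻¹ * q)) * (p⁻¹ * q)⁻¹) * p⁻¹ := by group
        _ = p * ((p⁻¹ * q * u) * (p⁻¹ * q)⁻¹) * p⁻¹ := by rw [this]
        _ = _ := by group)
    refine (Nat.card_congr (Equiv.ofBijective f ⟨?_, ?_⟩)).symm
    · rintro ⟨p⟩ ⟨q⟩ hpq
      have hpq' : p * u * p⁻¹ = q * u * q⁻¹ := congrArg Subtype.val hpq
      refine QuotientGroup.eq.mpr (mem_cent.mpr ?_)
      calc p⁻¹ * q * u = p⁻¹ * (q * u * q⁻¹) * q := by group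
        _ = p⁻¹ * (p * u * p⁻¹) * q := by rw [hpq']
        _ = _ := by group
    · rintro ⟨t, p, rfl⟩
      exact ⟨(p : G ⧸ _), rfl⟩
  have hinvol : ∀ t : G, (∃ p : G, p * u * p⁻¹ = t) → orderOf t = 2 := fun t ⟨p, hp⟩ =>
    hp ▸ (Involutions.orderOf_conj p u).trans huo
  have hfib : ∀ q : G ⧸ S.N, Nat.card {t : U // t.1 • q = q} = c := by
    intro q
    induction q using QuotientGroup.induction_on with
    | H p =>
      rw [← hwc, cc]
      have hmem : ∀ t : G, (t • ((p : G) : G ⧸ S.N) = (p : G ⧸ S.N)) ↔ p⁻¹ * t * p ∈ S.N := by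
        intro t
        show (((t * p : G) : G ⧸ S.N) = _) ↔ _
        rw [QuotientGroup.eq, ← inv_mem_iff]
        simp [mul_assoc]
      refine (Nat.card_congr (Equiv.ofBijective
        (fun v : S.W => (⟨⟨p * (v * u * (v : G)⁻¹) * p⁻¹, p * v, by group⟩, (hmem _).mpr (by
          rw [show p⁻¹ * (p * (v * u * (v : G)⁻¹) * p⁻¹) * p = v * u * (v : G)⁻¹ by group]
          exact mul_mem (mul_mem (S.W_le_N v.2) hun) (inv_mem (S.W_le_N v.2)))⟩ :
            {t : U // t.1 • ((p : G) : G ⧸ S.N) = (p : G ⧸ S.N)})) ⟨?_, ?_⟩)).symm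
      · intro v v' e
        have e' : p * (v * u * (v : G)⁻¹) * p⁻¹ = p * (v' * u * (v' : G)⁻¹) * p⁻¹ :=
          congrArg (fun t => t.1.1) e
        exact Subtype.ext (h.invol_inj hw hwc huo v.2 v'.2 (mul_left_cancel (mul_right_cancel e')))
      · rintro ⟨⟨t, ht⟩, htq⟩
        have ho : orderOf (p⁻¹ * t * p) = 2 := by
          have := (Involutions.orderOf_conj p⁻¹ t).trans (hinvol t ht)
          rwa [inv_inv] at this
        obtain ⟨-, v, hv, hve⟩ := h.conj_inverter hw hwc huo hun ho ((hmem t).mp htq)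
        refine ⟨⟨v, hv⟩, Subtype.ext (Subtype.ext ?_)⟩
        show p * (v * u * v⁻¹) * p⁻¹ = t
        rw [← hve]
        group
  have hpairs : Nat.card U * k = Nat.card (G ⧸ S.N) * c := by
    have e1 : Nat.card (Σ t : U, Fx t.1) = Nat.card U * k := by
      rw [Nat.card_sigma, Finset.sum_congr rfl (fun t _ => hconjFx t), Finset.sum_const, Finset.card_univ,
        smul_eq_mul, Nat.card_eq_fintype_card]
    have e2 : Nat.card (Σ q : G ⧸ S.N, {t : U // t.1 • q = q}) = Nat.card (G ⧸ S.N) * c := by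
      rw [Nat.card_sigma, Finset.sum_congr rfl (fun q _ => hfib q), Finset.sum_const, Finset.card_univ,
        smul_eq_mul, Nat.card_eq_fintype_card]
    rw [← e1, ← e2]
    exact Nat.card_congr ⟨fun x => ⟨x.2.1, x.1, x.2.2⟩, fun x => ⟨x.2.1, x.1, x.2.2⟩, fun _ => rfl, fun _ => rfl⟩
  have hQ : Nat.card (G ⧸ S.N) * S.e = b := by
    refine Nat.eq_of_mul_eq_mul_left h.pos.2 ?_
    rw [mul_comm c b, h.mul_eq, ← Subgroup.card_mul_index S.N, hNcard, Subgroup.index_eq_card]
    ring
  -- the linear space bound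
  have hlin : c * (k - 1) + 1 ≤ Nat.card (G ⧸ S.N) := by
    let q0 : G ⧸ S.N := ((1 : G) : G ⧸ S.N)
    let X := Σ v : S.W, {q : Fx ((v : G) * u * (v : G)⁻¹) // q.1 ≠ q0}
    have hcardX : Nat.card X = c * (k - 1) := by
      haveI := Fintype.ofFinite S.W
      rw [Nat.card_sigma, Finset.sum_congr rfl (fun v _ => ?_), Finset.sum_const, Finset.card_univ, smul_eq_mul,
        ← Nat.card_eq_fintype_card, show Nat.card S.W = c from hwc]
      have hq0 : ((v : G) * u * (v : G)⁻¹) • q0 = q0 := by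
        refine QuotientGroup.eq.mpr ?_
        show ((v : G) * u * (v : G)⁻¹ * 1)⁻¹ * 1 ∈ S.N
        rw [mul_one, mul_one]
        exact inv_mem (mul_mem (mul_mem (S.W_le_N v.2) hun) (inv_mem (S.W_le_N v.2)))
      have hkv : Nat.card (Fx ((v : G) * u * (v : G)⁻¹)) = k := hconjFx ⟨_, v, rfl⟩
      haveI := Fintype.ofFinite (Fx ((v : G) * u * (v : G)⁻¹))
      rw [← hkv, Nat.card_eq_fintype_card, Nat.card_eq_fintype_card,
        Fintype.card_congr (Equiv.subtypeEquivRight (q := fun q : Fx _ => ¬ q = ⟨q0, hq0⟩) fun q =>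
          not_congr ⟨fun e => Subtype.ext e, fun e => congrArg Subtype.val e⟩),
        Fintype.card_subtype_compl, Fintype.card_subtype_eq]
    rw [← hcardX, ← Finite.card_option]
    refine Nat.card_le_card_of_injective (fun o : Option X => o.elim q0 fun x => x.2.1.1) ?_
    rintro (_ | ⟨v, q, hq⟩) (_ | ⟨v', q', hq'⟩) e
    · rfl
    · exact absurd e.symm hq'
    · exact absurd e hq
    · simp only [Option.elim] at e
      obtain ⟨q, hqf⟩ := q
      obtain ⟨q', hqf'⟩ := q'
      simp only at e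
      subst e
      have hvv : v = v' := by
        by_contra hne
        induction q using QuotientGroup.induction_on with
        | H p =>
          refine hq (QuotientGroup.eq.mpr ?_)
          have hm : ∀ x : S.W, ((x : G) * u * (x : G)⁻¹) • ((p : G) : G ⧸ S.N) = (p : G ⧸ S.N) →
              p⁻¹ * ((x : G) * u * (x : G)⁻¹) * p ∈ S.N := fun x hx => by
            have := inv_mem (QuotientGroup.eq.mp hx)
            simpa [mul_assoc] using this
          have ho : ∀ x : S.W, orderOf (p⁻¹ * ((x : G) * u * (x : G)⁻¹) * p) = 2 := fun x => by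
            have := (Involutions.orderOf_conj p⁻¹ ((x : G) * u * (x : G)⁻¹)).trans
              ((Involutions.orderOf_conj (x : G) u).trans huo)
            rwa [inv_inv] at this
          have h1 := (h.conj_inverter hw hwc (ho v') (hm v' hqf') (ho v) (hm v hqf)).1
          have h2 := (h.conj_inverter hw hwc (u := (v' : G) * u * (v' : G)⁻¹)
            ((Involutions.orderOf_conj (v' : G) u).trans huo)
            (mul_mem (mul_mem (S.W_le_N v'.2) hun) (inv_mem (S.W_le_N v'.2)))
            ((Involutions.orderOf_conj (v : G) u).trans huo)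
            (mul_mem (mul_mem (S.W_le_N v.2) hun) (inv_mem (S.W_le_N v.2)))).1
          have hne1 : (v : G) * u * (v : G)⁻¹ * ((v' : G) * u * (v' : G)⁻¹) ≠ 1 := by
            intro e1
            refine hne (Subtype.ext (h.invol_inj hw hwc huo v.2 v'.2 ?_))
            rw [mul_eq_one_iff_eq_inv] at e1
            rw [e1]
            exact Involutions.inv_eq_self_of_orderOf ((Involutions.orderOf_conj (v' : G) u).trans huo)
          rw [mul_one]
          refine h.mem_normalizer_of_conj hw hwc h2 hne1 ?_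
          rw [show p⁻¹ * ((v : G) * u * (v : G)⁻¹ * ((v' : G) * u * (v' : G)⁻¹)) * p⁻¹⁻¹ =
            p⁻¹ * ((v : G) * u * (v : G)⁻¹) * p * (p⁻¹ * ((v' : G) * u * (v' : G)⁻¹) * p) by group]
          exact h1
      subst hvv
      rfl
  -- the normalizer quotient is small
  have hec : S.e + 1 ≤ c := by
    rw [← hwc, cc, Reg.e, Subgroup.index_eq_card, ← Finite.card_option]
    let f : S.N ⧸ S.W.subgroupOf S.N → S.W := Quotient.lift
      (fun y => ⟨(y : G) * w * (y : G)⁻¹, (mem_normalizer_iff.mp y.2 w).mp (self_mem w)⟩) (fun p q hpq => by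
        have hh := mem_cent.mp (mem_subgroupOf.mp (QuotientGroup.leftRel_apply.mp hpq))
        refine Subtype.ext ?_
        show (p : G) * w * (p : G)⁻¹ = q * w * (q : G)⁻¹
        rw [Subgroup.coe_mul, Subgroup.coe_inv] at hh
        calc (p : G) * w * (p : G)⁻¹ = p * (w * ((p : G)⁻¹ * q)) * (q : G)⁻¹ := by group
          _ = p * ((p : G)⁻¹ * q * w) * (q : G)⁻¹ := by rw [hh]
          _ = _ := by group)
    refine Nat.card_le_card_of_injective (fun o : Option (S.N ⧸ S.W.subgroupOf S.N) => o.elim (1 : S.W) f) ?_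
    have hne : ∀ q, f q ≠ 1 := by
      rintro ⟨p⟩ e
      exact hw (conj_eq_one_iff.mp (congrArg Subtype.val e))
    rintro (_ | p) (_ | q) e
    · rfl
    · exact absurd e.symm (hne q)
    · exact absurd e (hne p)
    · induction p using QuotientGroup.induction_on with
      | H p => induction q using QuotientGroup.induction_on with
        | H q =>
          have e' : (p : G) * w * (p : G)⁻¹ = q * w * (q : G)⁻¹ := congrArg Subtype.val e
          refine congrArg some (QuotientGroup.eq.mpr (mem_subgroupOf.mpr (mem_cent.mpr ?_)))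
          rw [Subgroup.coe_mul, Subgroup.coe_inv]
          calc (p : G)⁻¹ * q * w = (p : G)⁻¹ * ((q : G) * w * (q : G)⁻¹) * q := by group
            _ = (p : G)⁻¹ * ((p : G) * w * (p : G)⁻¹) * q := by rw [e']
            _ = _ := by group
  -- the arithmetic
  obtain ⟨m, hm⟩ := h.hab
  have hm0 : 0 < m := Nat.pos_of_ne_zero fun e => h.pos.1.ne' (by rw [hm, e, mul_zero])
  have ha0 : 0 < a := hua ▸ cc_pos u
  have hUc : Nat.card U = m * c := Nat.eq_of_mul_eq_mul_right ha0 (by rw [hU, hm]; ring)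
  have hmk : m * k = Nat.card (G ⧸ S.N) :=
    Nat.eq_of_mul_eq_mul_right h.pos.2 (by rw [← hpairs, hUc]; ring)
  have hae : a = k * S.e :=
    Nat.eq_of_mul_eq_mul_right hm0 (by rw [← hm, ← hQ, ← hmk]; ring)
  have he0 : 0 < S.e := Nat.pos_of_ne_zero fun e => h.pos.1.ne' (by rw [← hQ, e, mul_zero])
  have hDn : Nat.card D = m * k := by
    rw [hmk]
    exact Nat.eq_of_mul_eq_mul_right he0 (hDe.trans hQ.symm)
  rw [hDn, hae] at h2D
  rw [← hmk] at hlin
  obtain ⟨k', hk'⟩ : ∃ k', k = k' + 1 := ⟨k - 1, by omega⟩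
  rw [hk'] at hlin h2D hk
  simp only [add_tsub_cancel_right] at hlin
  nlinarith

end Chain

end CfsgLib.ConjRankThree
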