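import Cfsg.Agent.Lib.ConjRankThree.Flat
import Cfsg.Agent.Lib.Frobenius.Kernel

set_option autoImplicit false

/-!
With three centralizer orders, none properly dividing another, every centralizer is abelian.
-/

namespace CfsgLib.ConjRankThree

open Subgroup Cfsg
open scoped Pointwise

universe u

variable {G : Type u} [Group G] [Finite G] [Mono G]

theorem card_sylow_mul_le {p : ℕ} [Fact p.Prime] (P : Sylow p G) (H : Subgroup G)
    (hH : H ≤ normalizer ((P : Subgroup G) : Set G)) : Nat.card (Sylow p G) * Nat.card H ≤ Nat.card G := by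
  rw [P.card_eq_index_normalizer, ← (normalizer ((P : Subgroup G) : Set G)).index_mul_card]
  exact Nat.mul_le_mul_left _ (card_le_of_le hH)

/-- Few elements have a non-abelian Sylow subgroup as centralizer. -/
theorem Flat.count_nab {p : ℕ} [Fact p.Prime] {P : Sylow p G}
    (hP : ¬ ∀ u ∈ (P : Subgroup G), ∀ v ∈ (P : Subgroup G), u * v = v * u) (X : Set G)
    (hX : ∀ x ∈ X, ∃ Q : Sylow p G, (Q : Subgroup G) = centralizer ({x} : Set G)) :
    Nat.card X * (p * p) ≤ Nat.card G := by
  choose Q hQ using fun x : X => hX x.1 x.2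
  let cast : ∀ R : Sylow p G, center (R : Subgroup G) ≃* center (P : Subgroup G) := fun R =>
    Subgroup.centerCongr (Sylow.equiv R P)
  haveI := Fintype.ofFinite (Sylow p G)
  have h1 : Nat.card X ≤ Nat.card (Sylow p G) * Nat.card (center (P : Subgroup G)) := by
    rw [← Nat.card_prod]
    refine Nat.card_le_card_of_injective (fun x : X => (Q x, cast (Q x) ⟨⟨x.1, (hQ x).symm ▸ self_mem x.1⟩,
      mem_center_iff.mpr fun g => Subtype.ext (mem_cent.mp ((hQ x) ▸ g.2))⟩)) ?_
    intro x y e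
    simp only [Prod.mk.injEq] at e
    obtain ⟨e1, e2⟩ := e
    have key : ∀ (R R' : Sylow p G) (hR : R = R') (u : center (R : Subgroup G)) (u' : center (R' : Subgroup G)),
        cast R u = cast R' u' → ((u : (R : Subgroup G)) : G) = ((u' : (R' : Subgroup G)) : G) := by
      rintro R R' rfl u u' he
      rw [(cast R).injective he]
    exact Subtype.ext (key _ _ e1 _ _ e2)
  have hZ : Nat.card (center (P : Subgroup G)) * (p * p) ≤ Nat.card (P : Subgroup G) := by
    rw [← (center (P : Subgroup G)).card_mul_index]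
    refine Nat.mul_le_mul_left _ ?_
    obtain ⟨n, hn⟩ := (P.2.to_quotient (center (P : Subgroup G))).exists_card_eq
    rw [← index_eq_card] at hn
    rw [hn]
    have hn2 : 2 ≤ n := by
      by_contra hlt
      refine hP ?_
      haveI : IsCyclic ((P : Subgroup G) ⧸ center (P : Subgroup G)) := by
        rw [index_eq_card] at hn
        interval_cases n
        · haveI : Subsingleton ((P : Subgroup G) ⧸ center (P : Subgroup G)) :=
            (Nat.card_eq_one_iff_unique.mp (by rw [hn, pow_zero])).1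
          infer_instance
        · exact isCyclic_of_prime_card (p := p) (by rw [hn, pow_one])
      intro u hu v hv
      exact congrArg Subtype.val (commutative_of_cyclic_center_quotient
        (QuotientGroup.mk' (center (P : Subgroup G))) (by rw [QuotientGroup.ker_mk']) ⟨u, hu⟩ ⟨v, hv⟩)
    rw [← pow_two]
    exact Nat.pow_le_pow_right (Fact.out : p.Prime).pos hn2
  calc Nat.card X * (p * p) ≤ Nat.card (Sylow p G) * Nat.card (center (P : Subgroup G)) * (p * p) :=
        Nat.mul_le_mul_right _ h1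
    _ ≤ Nat.card (Sylow p G) * Nat.card (P : Subgroup G) := by rw [mul_assoc]; exact Nat.mul_le_mul_left _ hZ
    _ ≤ _ := card_sylow_mul_le P _ le_normalizer

/-- Elements with an abelian centralizer of full Hall type. -/
theorem Flat.count_ab (h : Flat G) {r : ℕ} [Fact r.Prime] {β : ℕ} (hrd : r ∣ Nat.card G)
    (hfull : r ^ (Nat.card G).factorization r ∣ β)
    (hr : ∀ x : G, x ≠ 1 → (∃ k, orderOf x = r ^ k) → cc x = β)
    (hab : ∀ x : G, x ≠ 1 → cc x = β → CAb x) (X : Set G) (hX : ∀ x ∈ X, x ≠ 1 ∧ cc x = β) :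
    Nat.card X * 2 ≤ Nat.card G := by
  obtain ⟨P⟩ : Nonempty (Sylow r G) := inferInstance
  have hC : ∀ R : Sylow r G, ∃ z : G, z ≠ 1 ∧ z ∈ (R : Subgroup G) ∧ cc z = β ∧
      (R : Subgroup G) ≤ centralizer ({z} : Set G) := by
    intro R
    obtain ⟨z, hz1, hzr, hzR, hR⟩ := exists_central_sylow hrd R
    exact ⟨z, hz1, hzR, hr z hz1 hzr, hR⟩
  choose z hz1 hzR hzc hRz using hC
  let C : Sylow r G → Subgroup G := fun R => centralizer ({z R} : Set G)
  have hsub : ∀ x ∈ X, ∃ R, x ∈ C R := by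
    intro x hx
    obtain ⟨hx1, hxc⟩ := hX x hx
    obtain ⟨g, hg⟩ := exists_sylow_le P (hxc ▸ hfull)
    refine ⟨g⁻¹ • P, ?_⟩
    have hle : ((g⁻¹ • P : Sylow r G) : Subgroup G) ≤ centralizer ({x} : Set G) := by
      intro u hu
      rw [Sylow.coe_subgroup_smul] at hu
      obtain ⟨v, hv, rfl⟩ := Subgroup.mem_map.mp hu
      refine mem_cent.mpr ?_
      show g⁻¹ * v * g⁻¹⁻¹ * x = x * (g⁻¹ * v * g⁻¹⁻¹)
      have e := mem_cent.mp (hg hv)
      calc g⁻¹ * v * g⁻¹⁻¹ * x = g⁻¹ * (v * (g * x * g⁻¹)) * g := by group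
        _ = g⁻¹ * (g * x * g⁻¹ * v) * g := by rw [e]
        _ = _ := by group
    exact mem_cent_symm (hle (hzR _))
  choose R hR using fun x : X => hsub x.1 x.2
  have hcardC : ∀ R, Nat.card (C R) = β := fun R => hzc R
  haveI := Fintype.ofFinite (Sylow r G)
  have h1 : Nat.card X ≤ Nat.card (Sylow r G) * β := by
    refine le_trans (Nat.card_le_card_of_injective (fun x : X => (⟨R x, x.1, hR x⟩ : Σ R, C R)) ?_) (le_of_eq ?_)
    · intro x y e
      exact Subtype.ext (congrArg (fun q : Σ R, C R => (q.2 : G)) e)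
    · rw [Nat.card_sigma, Finset.sum_congr rfl (fun R _ => hcardC R), Finset.sum_const, Finset.card_univ, smul_eq_mul,
        Nat.card_eq_fintype_card]
  have hab' : ∀ u ∈ C P, ∀ v ∈ C P, u * v = v * u := hab _ (hz1 P) (hzc P)
  have hle : C P ≤ normalizer ((P : Subgroup G) : Set G) := fun u hu => by
    refine mem_normalizer_iff.mpr fun v => ⟨fun hv => ?_, fun hv => ?_⟩
    · show u * v * u⁻¹ ∈ (P : Subgroup G)
      rw [hab' u hu v (hRz P hv), mul_inv_cancel_right]
      exact hv
    · have e := hab' u⁻¹ (inv_mem hu) _ (hRz P hv)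
      have : v = u * v * u⁻¹ := by
        calc v = u⁻¹ * (u * v * u⁻¹) * u := by group
          _ = u * v * u⁻¹ * u⁻¹ * u := by rw [e]
          _ = _ := by group
      rw [this]
      exact hv
  have h2 : 2 * β ≤ Nat.card (normalizer ((P : Subgroup G) : Set G)) := by
    have hCc : Nat.card (C P) = β := hcardC P
    rw [← Nat.card_congr (subgroupOfEquivOfLe hle).toEquiv] at hCc
    rw [← hCc, ← ((C P).subgroupOf _).index_mul_card]
    refine Nat.mul_le_mul_right _ ?_
    by_contra hlt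
    have he : ((C P).subgroupOf (normalizer ((P : Subgroup G) : Set G))).index = 1 := by
      have : 0 < ((C P).subgroupOf (normalizer ((P : Subgroup G) : Set G))).index :=
        Nat.pos_of_ne_zero index_ne_zero_of_finite
      omega
    have hNC : normalizer ((P : Subgroup G) : Set G) ≤ centralizer ((P : Subgroup G) : Set G) := fun u hu =>
      mem_centralizer_iff.mpr fun v hv =>
        hab' v (hRz P hv) u (mem_subgroupOf.mp ((index_eq_one.mp he) ▸ mem_top (⟨u, hu⟩ : normalizer ((P : Subgroup G) : Set G))))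
    have hcent : ∀ x ∈ C P, x ≠ 1 → centralizer ({x} : Set G) = C P := fun x hx hx1 =>
      (h.eq (hz1 P) hx1 fun u hu => mem_cent.mpr (hab' u hu x hx)).symm
    have hnorm : normalizer ((P : Subgroup G) : Set G) ≤ C P := fun u hu =>
      mem_subgroupOf.mp ((index_eq_one.mp he) ▸ mem_top (⟨u, hu⟩ : normalizer ((P : Subgroup G) : Set G)))
    have hF : IsFrobeniusComplement (C P) := by
      refine ⟨fun e => hz1 P (mem_bot.mp (e ▸ self_mem (z P))), cent_ne_top (hz1 P), fun g hg => ?_⟩
      refine (eq_bot_iff_forall _).mpr fun x hx => by_contra fun hx1 => hg ?_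
      obtain ⟨hxC, hxg⟩ := Subgroup.mem_inf.mp hx
      rw [mem_pointwise_smul_iff_inv_smul_mem, ← map_inv, MulAut.smul_def, MulAut.conj_apply, inv_inv] at hxg
      have e1 := hcent x hxC hx1
      have e2 := hcent _ hxg (by simpa [mul_assoc] using fun e : g⁻¹ * x * g = 1 => hx1 (by
        rw [show x = g * (g⁻¹ * x * g) * g⁻¹ by group, e]; group))
      -- conjugation by `g` preserves the centralizer
      have hconj : ∀ v ∈ C P, g * v * g⁻¹ ∈ C P := by
        intro v hv
        rw [← e2] at hv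
        rw [← e1, mem_cent]
        calc g * v * g⁻¹ * x = g * (v * (g⁻¹ * x * g)) * g⁻¹ := by group
          _ = g * (g⁻¹ * x * g * v) * g⁻¹ := by rw [mem_cent.mp hv]
          _ = _ := by group
      have hP' : ((g • P : Sylow r G) : Subgroup G) ≤ C P := by
        intro v hv
        rw [Sylow.coe_subgroup_smul] at hv
        obtain ⟨v', hv', rfl⟩ := Subgroup.mem_map.mp hv
        exact hconj v' (hRz P hv')
      have hsup : IsPGroup r ((P : Subgroup G) ⊔ ((g • P : Sylow r G) : Subgroup G) : Subgroup G) := by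
        refine P.2.to_sup_of_normal_left' (g • P).2 fun u hu => mem_normalizer_iff.mpr fun v => ?_
        constructor <;> intro hv
        · show u * v * u⁻¹ ∈ (P : Subgroup G)
          rwa [hab' u (hP' hu) v (hRz P hv), mul_inv_cancel_right]
        · have hv' : u * v * u⁻¹ ∈ C P := hRz P hv
          have := hab' u (hP' hu) _ hv'
          have e3 : v = u * v * u⁻¹ := by
            have := congrArg (fun y => u⁻¹ * y) this
            simp only [inv_mul_cancel_left] at this
            rw [show u⁻¹ * (u * v * u⁻¹ * u) = v by group] at this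
            exact this.symm
          exact e3 ▸ hv
      have e := P.3 hsup le_sup_left
      have hge : ((g • P : Sylow r G) : Subgroup G) = P :=
        eq_of_le_of_card_ge (le_sup_right.trans e.le) (le_of_eq (by rw [P.card_eq_multiplicity, (g • P).card_eq_multiplicity]))
      refine hnorm (mem_normalizer_iff.mpr fun v => ?_)
      show v ∈ (P : Subgroup G) ↔ g * v * g⁻¹ ∈ (P : Subgroup G)
      nth_rw 2 [← hge]
      rw [Sylow.coe_subgroup_smul, mem_pointwise_smul_iff_inv_smul_mem, ← map_inv, MulAut.smul_def,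
        MulAut.conj_apply, inv_inv, show g⁻¹ * (g * v * g⁻¹) * g = v by group]
    obtain ⟨K, -, hKn, hKc, hKnil⟩ := CfsgLib.Frob.exists_nilpotent_kernel hF
    haveI := hKn
    haveI := hKnil
    refine solvable_normal_absurd (N := K) inferInstance fun e => hF.2.1 ?_
    rw [e, isComplement'_bot_left] at hKc
    exact hKc
  calc Nat.card X * 2 ≤ Nat.card (Sylow r G) * β * 2 := Nat.mul_le_mul_right _ h1
    _ ≤ Nat.card (Sylow r G) * Nat.card (normalizer ((P : Subgroup G) : Set G)) := by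
        rw [mul_assoc, mul_comm β]; exact Nat.mul_le_mul_left _ h2
    _ ≤ _ := card_sylow_mul_le P _ le_rfl

theorem Flat.abelian (h : Flat G) (heven : 2 ∣ Nat.card G) (V : Finset ℕ)
    (hV : V.card ≤ 3) (hval : ∀ x : G, x ≠ 1 → cc x ∈ V) : ∀ x : G, x ≠ 1 → CAb x := by
  classical
  by_contra hcon
  push Not at hcon
  obtain ⟨x0, hx0, hx0n⟩ := hcon
  obtain ⟨p, hp, P, hPe, hPn⟩ := h.exists_sylow_of_nab hx0 hx0n
  haveI : Fact (Nat.Prime 2) := ⟨Nat.prime_two⟩
  have hpp : p.Prime := hp.out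
  have hp2 : p ≠ 2 := by
    rintro rfl
    refine hx0n ?_
    obtain ⟨i, hi⟩ := P.2 ⟨x0, hPe.symm ▸ self_mem x0⟩
    obtain ⟨j, -, hj⟩ := (Nat.dvd_prime_pow Nat.prime_two).mp
      (show orderOf x0 ∣ 2 ^ i from orderOf_dvd_of_pow_eq_one (congrArg Subtype.val hi))
    exact h.two_cent_ab hx0 ⟨j, hj⟩
  -- an involution in the centre of a Sylow subgroup
  obtain ⟨z0, hz01, ⟨k0, hk0⟩, -, hR⟩ := exists_central_sylow heven (default : Sylow 2 G)
  have hd : 2 ∣ orderOf z0 := by
    rw [hk0]
    refine dvd_pow_self 2 fun e => hz01 (orderOf_eq_one_iff.mp ?_)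
    rw [hk0, e, pow_zero]
  set s := z0 ^ (orderOf z0 / 2)
  have hs : orderOf s = 2 := orderOf_pow_orderOf_div (orderOf_pos z0).ne' hd
  have hs1 : s ≠ 1 := fun e => by rw [e, orderOf_one] at hs; omega
  have hfull : 2 ^ (Nat.card G).factorization 2 ∣ cc s := sylow_dvd_of_le _ (hR.trans (cent_le_pow z0 _))
  have hsab : CAb s := h.two_cent_ab hs1 ⟨1, by rw [hs, pow_one]⟩
  have hcent : ∀ t : G, orderOf t = 2 → ∀ l ∈ centralizer ({t} : Set G), l ≠ 1 →
      centralizer ({l} : Set G) = centralizer ({t} : Set G) := by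
    intro t ht l hl hl1
    have ht1 : t ≠ 1 := fun e => by rw [e, orderOf_one] at ht; omega
    exact (h.eq ht1 hl1 fun u hu => mem_cent.mpr (h.two_cent_ab ht1 ⟨1, by rw [ht, pow_one]⟩ u hu l hl)).symm
  have hout : ∀ t u : G, orderOf t = 2 → orderOf u = 2 → u ∉ centralizer ({t} : Set G) →
      ∃ g : G, u = g * t * g⁻¹ := by
    intro t u ht hu hut
    have ht2 := Involutions.mul_self_eq_one_of_orderOf ht
    have hu2 := Involutions.mul_self_eq_one_of_orderOf hu
    have hodd : Odd (orderOf (t * u)) := by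
      rw [← Nat.not_even_iff_odd]
      intro hev
      obtain ⟨h1, h2'⟩ := Involutions.central_half ht2 hu2 hev
      have ho := Involutions.orderOf_half (x := t) (y := u) hev
      refine hut ?_
      rw [← hcent t ht _ (mem_cent.mpr h1.eq) (fun e => by rw [e, orderOf_one] at ho; omega)]
      exact mem_cent.mpr h2'.eq.symm
    obtain ⟨d, -, e⟩ := Involutions.exists_conj_eq_of_odd ht2 hu2 hodd
    exact ⟨d, e.symm⟩
  obtain ⟨u, hu, hus⟩ : ∃ u : G, orderOf u = 2 ∧ u ∉ centralizer ({s} : Set G) := by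
    by_contra hcon
    push Not at hcon
    exact class_cent_absurd hs1 hs1 fun g => hcon _ ((Involutions.orderOf_conj g s).trans hs)
  let S : CAEven.Setup G :=
    { A := centralizer ({s} : Set G)
      s := s
      ord := hs
      mem := self_mem s
      cent := fun x hx hx1 => hcent s hs x hx hx1
      conj := fun t ht => by
        by_cases htA : t ∈ centralizer ({s} : Set G)
        · obtain ⟨g, hg⟩ := hout s u hs hu hus
          obtain ⟨g', hg'⟩ := hout t u ht hu (fun e => hus (by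
            rw [← hcent s hs t htA (fun e1 => by rw [e1, orderOf_one] at ht; omega)]; exact e))
          refine ⟨g'⁻¹ * g, ?_⟩
          calc t = g'⁻¹ * (g' * t * g'⁻¹) * g' := by group
            _ = g'⁻¹ * (g * s * g⁻¹) * g' := by rw [← hg', hg]
            _ = _ := by group
        · exact hout s t hs ht htA
      notNormal := fun e => abelian_normal_absurd (hN := normalizer_eq_top_iff.mp e)
        hsab (fun e' => hs1 (mem_bot.mp (e' ▸ self_mem s))) }
  letI := Fintype.ofFinite G
  have hj : 2 ≤ S.j := by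
    obtain ⟨g, hne, hcomm⟩ := exists_commuting_conj hs
    have h1 : g * s * g⁻¹ ∈ S.Om ∧ g * s * g⁻¹ ≠ 1 :=
      S.invol_iff.mp ⟨(Involutions.orderOf_conj g s).trans hs, mem_cent.mpr hcomm.eq.symm⟩
    have h0 : s ∈ S.Om ∧ s ≠ 1 := S.invol_iff.mp ⟨hs, self_mem s⟩
    haveI : Nontrivial {x : G // x ∈ S.Om ∧ x ≠ 1} :=
      ⟨⟨⟨_, h1⟩, ⟨_, h0⟩, fun e => hne (congrArg Subtype.val e)⟩⟩
    exact Finite.one_lt_card
  set q := cc s with hq
  have hq2 : ∀ r : ℕ, r.Prime → r ∣ q → r = 2 := by
    intro r hr hrq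
    haveI := Fact.mk hr
    obtain ⟨x, hx⟩ := exists_prime_orderOf_dvd_card' (G := centralizer ({s} : Set G)) r hrq
    rw [← Subgroup.orderOf_coe] at hx
    exact (Nat.prime_dvd_prime_iff_eq hr Nat.prime_two).mp
      (hx ▸ orderOf_dvd_of_pow_eq_one (by rw [pow_two]; exact S.sq_eq_one hj x.2))
  have hq4 : 4 ≤ q := by
    have h1 : Nat.card S.Om ∣ q := card_dvd_of_le S.Om_le
    have h3 : Nat.card S.Om ≤ q := Nat.le_of_dvd (cc_pos s) h1
    rw [S.card_Om] at h3
    have hpow := Nat.eq_prime_pow_of_unique_prime_dvd (cc_pos s).ne' (fun {d} hd hdq => hq2 d hd hdq)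
    by_contra hlt
    have : q = 3 := by omega
    exact absurd (hq2 3 Nat.prime_three (this.symm ▸ dvd_rfl)) (by omega)
  set π := p ^ (Nat.card G).factorization p with hπ
  have hx0c : cc x0 = π := by
    show Nat.card (centralizer ({x0} : Set G)) = _
    rw [← hPe]
    exact P.card_eq_multiplicity
  have hpd : p ∣ Nat.card G := by
    refine Dvd.dvd.trans ?_ P.1.card_subgroup_dvd_card
    obtain ⟨k, hk⟩ := P.2.exists_card_eq
    rw [hk]
    refine dvd_pow_self p fun e => hPn ?_
    haveI : Subsingleton (P : Subgroup G) := (Nat.card_eq_one_iff_unique.mp (by rw [hk, e, pow_zero])).1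
    intro u hu v hv
    exact congrArg Subtype.val (Subsingleton.elim (⟨u * v, mul_mem hu hv⟩ : (P : Subgroup G)) ⟨v * u, mul_mem hv hu⟩)
  have hπp : 1 < π := Nat.one_lt_pow (hpp.factorization_pos_of_dvd Nat.card_pos.ne' hpd).ne' hpp.one_lt
  have hqπ : q ≠ π := fun e => hp2 (hq2 p hpp (e ▸ dvd_pow_self p (hpp.factorization_pos_of_dvd Nat.card_pos.ne' hpd).ne'))
  have hpelem : ∀ x : G, x ≠ 1 → (∃ k, orderOf x = p ^ k) → cc x = π := by
    intro x hx hxp
    obtain ⟨Q, hQ⟩ := h.cent_nab hPn hx hxp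
    show Nat.card (centralizer ({x} : Set G)) = _
    rw [← hQ]
    exact Q.card_eq_multiplicity
  have htwo : ∀ x : G, orderOf x = 2 → cc x = q := by
    intro x hx
    obtain ⟨g, rfl⟩ := S.conj x hx
    exact cc_conj g s
  -- elements of order dividing a value
  have hqinv : ∀ x : G, x ≠ 1 → cc x = q → orderOf x = 2 := by
    intro x hx hxc
    obtain ⟨n, r, hr, hn, hk⟩ := exists_primary hx
    have hmem : ∀ d : ℕ, d.Prime → d ∣ orderOf x → d = 2 := fun d hd hdx =>
      hq2 d hd (hdx.trans (hxc ▸ orderOf_dvd_cc (self_mem x)))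
    obtain ⟨y, hy⟩ := exists_prime_orderOf_dvd_card' (G := centralizer ({x} : Set G)) 2
      (show 2 ∣ cc x by
        rw [hxc]
        exact (dvd_pow_self 2 (Nat.prime_two.factorization_pos_of_dvd Nat.card_pos.ne' heven).ne').trans hfull)
    rw [← Subgroup.orderOf_coe] at hy
    obtain ⟨g, hg⟩ := S.conj y hy
    have hxm : g⁻¹ * x * g ∈ centralizer ({s} : Set G) := by
      refine mem_cent.mpr ?_
      have e : (y : G) * x = x * y := mem_cent.mp y.2
      rw [hg] at e
      calc g⁻¹ * x * g * s = g⁻¹ * (x * (g * s * g⁻¹)) * g := by group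
        _ = g⁻¹ * (g * s * g⁻¹ * x) * g := by rw [e]
        _ = _ := by group
    have := S.sq_eq_one hj hxm
    refine orderOf_eq_prime ?_ hx
    rw [pow_two]
    calc x * x = g * (g⁻¹ * x * g * (g⁻¹ * x * g)) * g⁻¹ := by group
      _ = 1 := by rw [this]; group
  let Xs : ℕ → Set G := fun v => {x | x ≠ 1 ∧ cc x = v}
  have hnq : Nat.card (Xs q) * 4 ≤ Nat.card G := by
    refine le_trans (Nat.mul_le_mul_left _ hq4) ?_
    rw [← (centralizer ({s} : Set G)).index_mul_card]
    refine Nat.mul_le_mul_right _ ?_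
    rw [Subgroup.index_eq_card]
    choose g hg using fun x : Xs q => S.conj x.1 (hqinv x.1 x.2.1 x.2.2)
    refine Nat.card_le_card_of_injective (fun x => ((g x : G) : G ⧸ centralizer ({s} : Set G))) fun x y e => ?_
    have hh := mem_cent.mp (QuotientGroup.eq.mp e)
    refine Subtype.ext ?_
    rw [hg x, hg y]
    show g x * s * (g x)⁻¹ = g y * s * (g y)⁻¹
    calc g x * s * (g x)⁻¹ = g x * (s * ((g x)⁻¹ * g y)) * (g y)⁻¹ := by group
      _ = g x * ((g x)⁻¹ * g y * s) * (g y)⁻¹ := by rw [hh]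
      _ = _ := by group
  have hnπ : Nat.card (Xs π) * 9 ≤ Nat.card G := by
    refine le_trans (Nat.mul_le_mul_left _ ?_) (Flat.count_nab (P := P) hPn (Xs π) ?_)
    · have : 3 ≤ p := by have := hpp.two_le; omega
      exact Nat.mul_le_mul this this
    · rintro x ⟨hx, hxc⟩
      refine h.cent_nab hPn hx ?_
      have hd : orderOf x ∣ π := hxc ▸ orderOf_dvd_cc (self_mem x)
      obtain ⟨j, -, hj⟩ := (Nat.dvd_prime_pow hpp).mp hd
      exact ⟨j, hj⟩
  -- the third value
  have hrest : ∃ β, ∀ x : G, x ≠ 1 → cc x = q ∨ cc x = π ∨ cc x = β := by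
    by_cases hβ : ∃ y : G, y ≠ 1 ∧ cc y ≠ q ∧ cc y ≠ π
    · obtain ⟨y, hy, hy1, hy2⟩ := hβ
      refine ⟨cc y, fun x hx => ?_⟩
      by_contra hne
      push Not at hne
      have hsub : ({q, π, cc y, cc x} : Finset ℕ) ⊆ V := by
        intro v hv
        simp only [Finset.mem_insert, Finset.mem_singleton] at hv
        rcases hv with rfl | rfl | rfl | rfl
        · exact hval s hs1
        · exact hx0c ▸ hval x0 hx0
        · exact hval y hy
        · exact hval x hx
      have := Finset.card_le_card hsub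
      rw [Finset.card_insert_of_notMem (by simp [hqπ, hy1.symm, hne.1.symm]),
        Finset.card_insert_of_notMem (by simp [hy2.symm, hne.2.1.symm]), Finset.card_pair hne.2.2.symm] at this
      omega
    · push Not at hβ
      exact ⟨q, fun x hx => (em (cc x = q)).imp id (fun e => Or.inl (hβ x hx e))⟩
  obtain ⟨β, hβ⟩ := hrest
  have htot : Nat.card G ≤ 1 + Nat.card (Xs q) + Nat.card (Xs π) + Nat.card {x : G | x ∈ Xs β ∧ β ≠ q ∧ β ≠ π} := by
    haveI := Fintype.ofFinite G
    simp only [Nat.card_coe_set_eq]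
    rw [← Set.ncard_univ]
    refine (Set.ncard_le_ncard (fun x _ => ?_) (Set.toFinite
      ({(1 : G)} ∪ Xs q ∪ Xs π ∪ {x : G | x ∈ Xs β ∧ β ≠ q ∧ β ≠ π}))).trans ?_
    · by_cases hx : x = 1
      · exact Or.inl (Or.inl (Or.inl hx))
      by_cases h1 : cc x = q
      · exact Or.inl (Or.inl (Or.inr ⟨hx, h1⟩))
      by_cases h2 : cc x = π
      · exact Or.inl (Or.inr ⟨hx, h2⟩)
      have h3 := ((hβ x hx).resolve_left h1).resolve_left h2
      exact Or.inr ⟨⟨hx, h3⟩, fun e => h1 (h3.trans e), fun e => h2 (h3.trans e)⟩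
    · refine (Set.ncard_union_le _ _).trans (Nat.add_le_add_right ?_ _)
      refine (Set.ncard_union_le _ _).trans (Nat.add_le_add_right ?_ _)
      refine (Set.ncard_union_le _ _).trans (Nat.add_le_add_right ?_ _)
      simp
  have hnβ : Nat.card {x : G | x ∈ Xs β ∧ β ≠ q ∧ β ≠ π} * 2 ≤ Nat.card G := by
    by_cases hex : ∃ x : G, x ∈ Xs β ∧ β ≠ q ∧ β ≠ π
    swap
    · rw [Set.eq_empty_of_forall_notMem (s := {x : G | x ∈ Xs β ∧ β ≠ q ∧ β ≠ π}) fun x hx => hex ⟨x, hx⟩]
      simp
    obtain ⟨y, ⟨hy1, hyc⟩, hbq, hbπ⟩ := hex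
    obtain ⟨n, r, hr, hn, hk⟩ := exists_primary hy1
    haveI := Fact.mk hr
    have hyr : cc (y ^ n) = β := (h y (y ^ n) hy1 hn (cc_le_of_le (cent_le_pow y n))).symm.trans hyc
    have hr2 : r ≠ 2 := by
      rintro rfl
      obtain ⟨j, hj'⟩ := hk
      have hd : 2 ∣ orderOf (y ^ n) := by
        rw [hj']
        refine dvd_pow_self 2 fun e => hn (orderOf_eq_one_iff.mp ?_)
        rw [hj', e, pow_zero]
      set t := (y ^ n) ^ (orderOf (y ^ n) / 2)
      have ht : orderOf t = 2 := orderOf_pow_orderOf_div (orderOf_pos _).ne' hd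
      have ht1 : t ≠ 1 := fun e => by rw [e, orderOf_one] at ht; omega
      exact hbq (hyr.symm.trans ((h _ t hn ht1 (cc_le_of_le (cent_le_pow _ _))).trans (htwo t ht)))
    have hrp : r ≠ p := by
      rintro rfl
      exact hbπ (hyr.symm.trans (hpelem _ hn hk))
    have hrd : r ∣ Nat.card G := by
      obtain ⟨j, hj'⟩ := hk
      refine Dvd.dvd.trans ?_ (orderOf_dvd_natCard (y ^ n))
      rw [hj']
      refine dvd_pow_self r fun e => hn (orderOf_eq_one_iff.mp ?_)
      rw [hj', e, pow_zero]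
    have hrelem : ∀ x : G, x ≠ 1 → (∃ k, orderOf x = r ^ k) → cc x = β := by
      intro x hx ⟨j, hj'⟩
      have hr_dvd : r ∣ cc x := by
        refine Dvd.dvd.trans ?_ (orderOf_dvd_cc (self_mem x))
        rw [hj']
        refine dvd_pow_self r fun e => hx (orderOf_eq_one_iff.mp ?_)
        rw [hj', e, pow_zero]
      rcases hβ x hx with e | e | e
      · exact absurd (hq2 r hr (e ▸ hr_dvd)) hr2
      · exact absurd ((Nat.prime_dvd_prime_iff_eq hr hpp).mp (hr.dvd_of_dvd_pow (e ▸ hr_dvd))) hrp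
      · exact e
    have hsub : {x : G | x ∈ Xs β ∧ β ≠ q ∧ β ≠ π} = Xs β := Set.ext fun x => ⟨fun e => e.1, fun e => ⟨e, hbq, hbπ⟩⟩
    rw [hsub]
    by_cases hab : ∀ x : G, x ≠ 1 → cc x = β → CAb x
    · obtain ⟨R⟩ : Nonempty (Sylow r G) := inferInstance
      obtain ⟨zr, hz1, hzr, -, hzR⟩ := exists_central_sylow hrd R
      exact h.count_ab hrd (hrelem zr hz1 hzr ▸ sylow_dvd_of_le R hzR) hrelem hab (Xs β) (fun x hx => hx)
    · push Not at hab
      obtain ⟨x1, hx1, hx1c, hx1n⟩ := hab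
      obtain ⟨r', hr', Q, hQe, hQn⟩ := h.exists_sylow_of_nab hx1 hx1n
      have hβQ : β = r' ^ (Nat.card G).factorization r' := by
        rw [← hx1c, ← Q.card_eq_multiplicity, hQe]
        rfl
      refine le_trans (Nat.mul_le_mul_left _ ?_) (Flat.count_nab (P := Q) hQn (Xs β) ?_)
      · exact le_trans hr'.out.two_le (Nat.le_mul_self r')
      · rintro x ⟨hx, hxc⟩
        refine h.cent_nab hQn hx ?_
        obtain ⟨j, -, hj'⟩ := (Nat.dvd_prime_pow hr'.out).mp (hβQ ▸ hxc ▸ orderOf_dvd_cc (self_mem x))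
        exact ⟨j, hj'⟩
  have h8 : 8 ≤ Nat.card G := by
    have h1 : Nat.Coprime q π := by
      refine Nat.coprime_of_dvd fun d hd hdq hdπ => hp2 ?_
      rw [← hq2 d hd hdq]
      exact ((Nat.prime_dvd_prime_iff_eq hd hpp).mp (hd.dvd_of_dvd_pow hdπ)).symm
    have h2 := Nat.le_of_dvd Nat.card_pos (h1.mul_dvd_of_dvd_of_dvd (cc_dvd s) (hx0c ▸ cc_dvd x0))
    have h3 : 4 * 2 ≤ q * π := Nat.mul_le_mul hq4 hπp
    omega
  omega

end CfsgLib.ConjRankThree
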