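import Cfsg.Agent.Lib.ConjRankThree.CaseA
import Cfsg.Agent.Lib.ConjRankThree.CaseB
import Cfsg.Agent.Lib.ConjRankThree.FlatCount
import Cfsg.Agent.S0205

set_option autoImplicit false

/-!
Simple groups with exactly three orders of centralizers of non-identity elements have transitive commuting.
-/

namespace CfsgLib.ConjRankThree

open Subgroup

universe u

variable {G : Type u} [Group G] [Finite G] [IsSimpleGroup G]

theorem two_dvd_card (hna : ¬ IsMulCommutative G) : 2 ∣ Nat.card G := by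
  by_contra h
  have hodd : Odd (Nat.card G) := Nat.odd_iff.mpr (by omega)
  exact hna ⟨⟨IsSimpleGroup.comm_iff_isSolvable.mpr (Cfsg.Agent.S0205.result hodd)⟩⟩

theorem mem_center_iff_one (hna : ¬ IsMulCommutative G) {x : G} : x ∈ center G ↔ x = 1 := by
  refine ⟨fun h => by_contra fun hx => ?_, fun h => h ▸ one_mem _⟩
  rcases (inferInstance : (center G).Normal).eq_bot_or_eq_top with e | e
  · exact hx (mem_bot.mp (e ▸ h))
  · exact hna ⟨⟨fun a b => (mem_center_iff.mp (e ▸ mem_top a) b).symm⟩⟩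

/-- The orders of the centralizers of the non-identity elements. -/
def orders (G : Type u) [Group G] : Set ℕ := {v | ∃ x : G, x ≠ 1 ∧ cc x = v}

theorem orders_ncard (hna : ¬ IsMulCommutative G)
    (h : Set.ncard {m : ℕ | ∃ x : G, x ∉ center G ∧ m = (centralizer ({x} : Set G)).index} = 3) :
    (orders G).ncard = 3 := by
  rw [← h]
  have hidx : ∀ x : G, (centralizer ({x} : Set G)).index = Nat.card G / cc x := fun x => by
    rw [← (centralizer ({x} : Set G)).card_mul_index]
    exact (Nat.mul_div_cancel_left _ (cc_pos x)).symm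
  have e : {m : ℕ | ∃ x : G, x ∉ center G ∧ m = (centralizer ({x} : Set G)).index} =
      (fun v => Nat.card G / v) '' orders G := by
    ext m
    constructor
    · rintro ⟨x, hx, rfl⟩
      exact ⟨cc x, ⟨x, fun e => hx ((mem_center_iff_one hna).mpr e), rfl⟩, (hidx x).symm⟩
    · rintro ⟨v, ⟨x, hx, rfl⟩, rfl⟩
      exact ⟨x, fun e => hx ((mem_center_iff_one hna).mp e), (hidx x).symm⟩
  rw [e]
  refine (Set.InjOn.ncard_image ?_).symm
  rintro v ⟨x, -, rfl⟩ w ⟨y, -, rfl⟩ he
  have h1 := Nat.div_div_self (cc_dvd x) Nat.card_pos.ne'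
  rw [show Nat.card G / cc x = Nat.card G / cc y from he, Nat.div_div_self (cc_dvd y) Nat.card_pos.ne'] at h1
  exact h1.symm

theorem flat_of_three (hna : ¬ IsMulCommutative G) (h : (orders G).ncard = 3) : Flat G := by
  intro x y hx hy hd
  by_contra hne
  have hfin : (orders G).Finite := Set.finite_of_ncard_ne_zero (by omega)
  have hlt : cc x < cc y := lt_of_le_of_ne (Nat.le_of_dvd (cc_pos y) hd) hne
  obtain ⟨c, ⟨w, hw, rfl⟩, hc⟩ := Set.exists_mem_notMem_of_ncard_lt_ncard
    (show ({cc x, cc y} : Set ℕ).ncard < (orders G).ncard by rw [Set.ncard_pair hne, h]; omega)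
  simp only [Set.mem_insert_iff, Set.mem_singleton_iff, not_or] at hc
  have hsub : ({cc x, cc y, cc w} : Set ℕ) ⊆ orders G := by
    rintro v (rfl | rfl | rfl)
    exacts [⟨x, hx, rfl⟩, ⟨y, hy, rfl⟩, ⟨w, hw, rfl⟩]
  have he := Set.eq_of_subset_of_ncard_le hsub (by
    rw [h, Set.ncard_eq_three.mpr ⟨_, _, _, hne, Ne.symm hc.1, Ne.symm hc.2, rfl⟩]) hfin
  haveI := mono_of_simple hna
  have hC : Chain G (cc x) (cc y) (cc w) :=
    ⟨fun hs => hna ⟨⟨IsSimpleGroup.comm_iff_isSolvable.mpr hs⟩⟩, fun z hz => by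
      have hm : cc z ∈ orders G := ⟨z, hz, rfl⟩
      rw [← he] at hm
      exact hm, hd, hlt, Ne.symm hc.1, Ne.symm hc.2,
      ⟨y, hy, rfl⟩, ⟨w, hw, rfl⟩⟩
  by_cases hA : 2 ^ (Nat.card G).factorization 2 ∣ cc x
  · exact hC.not_caseA hA (two_dvd_card hna)
  · exact hC.not_caseB (two_dvd_card hna) hA

theorem comm_trans (hna : ¬ IsMulCommutative G) (h : (orders G).ncard = 3) :
    ∀ a b c : G, a ≠ 1 → b ≠ 1 → c ≠ 1 → Commute a b → Commute b c → Commute a c := by
  have hfin : (orders G).Finite := Set.finite_of_ncard_ne_zero (by omega)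
  haveI := mono_of_simple hna
  have hab := (flat_of_three hna h).abelian (two_dvd_card hna) hfin.toFinset
    (by rw [← Set.ncard_eq_toFinset_card _ hfin, h]) (fun x hx => hfin.mem_toFinset.mpr ⟨x, hx, rfl⟩)
  intro a b c _ hb _ h1 h2
  exact hab b hb a (mem_cent.mpr h1.eq) c (mem_cent.mpr h2.eq.symm)

end CfsgLib.ConjRankThree
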