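import Cfsg.Agent.Lib.ConjRankThree.Inverter

set_option autoImplicit false

/-!
The case where the smallest order contains the full 2-part of the group order.
-/

namespace CfsgLib.ConjRankThree

open Subgroup

universe u

variable {G : Type u} [Group G] [Finite G] [Mono G] {a b c : ℕ}

namespace Chain

variable (h : Chain G a b c) (hA : 2 ^ (Nat.card G).factorization 2 ∣ a)
include h hA

theorem real_c {x g : G} (hx : x * x ≠ 1) (hg : g * x * g⁻¹ = x⁻¹) : cc x = c := by
  rcases h.val x (fun e => hx (by rw [e, mul_one])) with e | e | e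
  · exact absurd hg (not_real (e ▸ hA) hx)
  · exact absurd hg (not_real (e ▸ hA.trans h.hab) hx)
  · exact e

theorem noncomm_mul_c {s t : G} (hs : orderOf s = 2) (ht : orderOf t = 2) (hst : ¬ Commute s t) :
    cc (s * t) = c ∧ (s * t) * (s * t) ≠ 1 := by
  have hs2 := Involutions.mul_self_eq_one_of_orderOf hs
  have ht2 := Involutions.mul_self_eq_one_of_orderOf ht
  have h2 : (s * t) * (s * t) ≠ 1 := fun e => hst (by
    have e1 := inv_eq_of_mul_eq_one_right e
    rw [mul_inv_rev, inv_eq_of_mul_eq_one_right hs2, inv_eq_of_mul_eq_one_right ht2] at e1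
    exact e1.symm)
  exact ⟨h.real_c hA h2 (Involutions.conj_mul_eq_inv hs2 ht2), h2⟩

theorem invol_trans {r s t : G} (hr : orderOf r = 2) (hs : orderOf s = 2) (ht : orderOf t = 2)
    (hrs : Commute r s) (hrt : Commute r t) : Commute s t := by
  by_contra hst
  obtain ⟨hc, -⟩ := h.noncomm_mul_c hA hs ht hst
  exact h.c_odd (hc ▸ hr ▸ orderOf_dvd_cc (mem_cent.mpr (hrs.mul_right hrt).eq))

theorem one_class {s t : G} (hs : orderOf s = 2) (ht : orderOf t = 2) : ∃ g : G, g * s * g⁻¹ = t := by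
  have key : ∀ s t : G, orderOf s = 2 → orderOf t = 2 → ¬ Commute s t → ∃ g : G, g * s * g⁻¹ = t := by
    intro s t hs ht hst
    obtain ⟨hc, -⟩ := h.noncomm_mul_c hA hs ht hst
    have hodd : Odd (orderOf (s * t)) := h.odd_mem hc (self_mem _)
    obtain ⟨d, -, e⟩ := Involutions.exists_conj_eq_of_odd (Involutions.mul_self_eq_one_of_orderOf hs)
      (Involutions.mul_self_eq_one_of_orderOf ht) hodd
    exact ⟨d, e⟩
  by_contra hne
  have hs1 : s ≠ 1 := fun e => by rw [e, orderOf_one] at hs; omega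
  have ht1 : t ≠ 1 := fun e => by rw [e, orderOf_one] at ht; omega
  refine class_cent_absurd hs1 ht1 fun g => ?_
  by_contra hg
  obtain ⟨p, hp⟩ := key (g * s * g⁻¹) t ((Involutions.orderOf_conj g s).trans hs) ht (fun e => hg (mem_cent.mpr e.eq))
  exact hne ⟨p * g, by rw [← hp]; group⟩

/-- The involutions commuting with a given one, and the identity. -/
theorem exists_Om {s : G} (hs : orderOf s = 2) :
    ∃ O : Subgroup G, ∀ x, x ∈ O ↔ x * x = 1 ∧ Commute s x := by
  refine ⟨{ carrier := {x | x * x = 1 ∧ Commute s x}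
            one_mem' := ⟨one_mul 1, Commute.one_right s⟩
            mul_mem' := ?_
            inv_mem' := ?_ }, fun x => Iff.rfl⟩
  · rintro x y ⟨hx, hsx⟩ ⟨hy, hsy⟩
    refine ⟨?_, hsx.mul_right hsy⟩
    rcases eq_or_ne x 1 with rfl | hx1
    · rw [one_mul, hy]
    rcases eq_or_ne y 1 with rfl | hy1
    · rw [mul_one, hx]
    have hxy := h.invol_trans hA hs (Involutions.orderOf_eq_two_iff'.mpr ⟨hx, hx1⟩)
      (Involutions.orderOf_eq_two_iff'.mpr ⟨hy, hy1⟩) hsx hsy
    calc x * y * (x * y) = x * (y * x) * y := by group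
      _ = (x * x) * (y * y) := by rw [← hxy.eq]; group
      _ = 1 := by rw [hx, hy, mul_one]
  · rintro x ⟨hx, hsx⟩
    exact ⟨by rw [← mul_inv_rev, hx, inv_one], hsx.inv_right⟩

theorem not_caseA (heven : 2 ∣ Nat.card G) : False := by
  classical
  haveI : Fact (Nat.Prime 2) := ⟨Nat.prime_two⟩
  obtain ⟨s, hs⟩ := exists_prime_orderOf_dvd_card' (G := G) 2 heven
  have hs1 : s ≠ 1 := fun e => by rw [e, orderOf_one] at hs; omega
  have hs2 := Involutions.mul_self_eq_one_of_orderOf hs
  obtain ⟨O, hO⟩ := h.exists_Om hA hs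
  let Inv := {t : G // orderOf t = 2}
  let J := {t : G // orderOf t = 2 ∧ Commute s t}
  set j := Nat.card J
  set I := Nat.card Inv
  -- the stabilizer
  let H : Subgroup G := normalizer (O : Set G)
  have hnorm : ∀ g : G, (∃ t, orderOf t = 2 ∧ Commute s t ∧ Commute s (g * t * g⁻¹)) → g ∈ H := by
    rintro g ⟨t, ht, hst, hst'⟩
    refine mem_normalizer_iff.mpr fun x => ?_
    show x ∈ O ↔ g * x * g⁻¹ ∈ O
    rw [hO, hO]
    have e2 : g * x * g⁻¹ * (g * x * g⁻¹) = g * (x * x) * g⁻¹ := by group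
    constructor
    · rintro ⟨hx, hsx⟩
      refine ⟨by rw [e2, hx]; group, ?_⟩
      rcases eq_or_ne x 1 with rfl | hx1
      · simp
      have htx := h.invol_trans hA hs ht (Involutions.orderOf_eq_two_iff'.mpr ⟨hx, hx1⟩) hst hsx
      exact h.invol_trans hA ((Involutions.orderOf_conj g t).trans ht) hs
        ((Involutions.orderOf_conj g x).trans (Involutions.orderOf_eq_two_iff'.mpr ⟨hx, hx1⟩)) hst'.symm
        (htx.map (MulAut.conj g))
    · rintro ⟨hgx, hsgx⟩
      have hx : x * x = 1 := conj_eq_one_iff.mp (e2.symm.trans hgx)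
      refine ⟨hx, ?_⟩
      rcases eq_or_ne x 1 with rfl | hx1
      · simp
      have hx2 := Involutions.orderOf_eq_two_iff'.mpr ⟨hx, hx1⟩
      have := h.invol_trans hA hs ((Involutions.orderOf_conj g t).trans ht)
        ((Involutions.orderOf_conj g x).trans hx2) hst' hsgx
      have htx : Commute t x := by
        have h' := this.map (MulAut.conj g⁻¹)
        simp only [MulAut.conj_apply, inv_inv] at h'
        simpa [mul_assoc] using h'
      exact h.invol_trans hA ht hs hx2 hst.symm htx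
  have hsc : ∀ x ∈ centralizer ({s} : Set G), x ∈ H := fun x hx => hnorm x ⟨s, hs, Commute.refl s, by
    rw [show x * s * x⁻¹ = s from mul_inv_eq_iff_eq_mul.mpr (mem_cent.mp hx)]⟩
  have hconjJ : ∀ g ∈ H, ∀ t : G, orderOf t = 2 → Commute s t → Commute s (g * t * g⁻¹) := fun g hg t ht hst =>
    ((hO _).mp ((mem_normalizer_iff.mp hg t).mp
      ((hO t).mpr ⟨Involutions.mul_self_eq_one_of_orderOf ht, hst⟩))).2
  -- counts
  let cl : G ⧸ centralizer ({s} : Set G) → Inv := Quotient.lift
    (fun g => ⟨g * s * g⁻¹, (Involutions.orderOf_conj g s).trans hs⟩) (fun p q hpq => by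
      have hh := mem_cent.mp (QuotientGroup.leftRel_apply.mp hpq)
      refine Subtype.ext ?_
      show p * s * p⁻¹ = q * s * q⁻¹
      calc p * s * p⁻¹ = p * (s * (p⁻¹ * q)) * q⁻¹ := by group
        _ = p * (p⁻¹ * q * s) * q⁻¹ := by rw [hh]
        _ = _ := by group)
  have hclinj : Function.Injective cl := by
    rintro ⟨p⟩ ⟨q⟩ e
    have e' : p * s * p⁻¹ = q * s * q⁻¹ := congrArg Subtype.val e
    refine QuotientGroup.eq.mpr (mem_cent.mpr ?_)
    calc p⁻¹ * q * s = p⁻¹ * (q * s * q⁻¹) * q := by group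
      _ = p⁻¹ * (p * s * p⁻¹) * q := by rw [e']
      _ = _ := by group
  have hI : I = (centralizer ({s} : Set G)).index := by
    rw [Subgroup.index_eq_card]
    refine (Nat.card_congr (Equiv.ofBijective cl ⟨hclinj, fun t => ?_⟩)).symm
    obtain ⟨g, hg⟩ := h.one_class hA hs t.2
    exact ⟨(g : G ⧸ _), Subtype.ext hg⟩
  have hj : j = ((centralizer ({s} : Set G)).subgroupOf H).index := by
    rw [Subgroup.index_eq_card]
    let f : H ⧸ (centralizer ({s} : Set G)).subgroupOf H → J := Quotient.lift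
      (fun g => ⟨(g : G) * s * (g : G)⁻¹, (Involutions.orderOf_conj (g : G) s).trans hs,
        hconjJ g g.2 s hs (Commute.refl s)⟩) (fun p q hpq => by
        refine Subtype.ext ?_
        have := congrArg Subtype.val (congrArg cl
          (show ((p : G) : G ⧸ centralizer ({s} : Set G)) = ((q : G) : G ⧸ centralizer ({s} : Set G)) from
            QuotientGroup.eq.mpr (mem_subgroupOf.mp (QuotientGroup.leftRel_apply.mp hpq))))
        exact this)
    refine (Nat.card_congr (Equiv.ofBijective f ⟨?_, ?_⟩)).symm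
    · rintro ⟨p⟩ ⟨q⟩ e
      exact QuotientGroup.eq.mpr (mem_subgroupOf.mpr (QuotientGroup.eq.mp
        (hclinj (a₁ := ((p : G) : G ⧸ centralizer ({s} : Set G))) (a₂ := ((q : G) : G ⧸ centralizer ({s} : Set G)))
          (Subtype.ext (congrArg (fun t : J => t.1) e)))))
    · rintro ⟨t, ht, hst⟩
      obtain ⟨g, hg⟩ := h.one_class hA hs ht
      exact ⟨((⟨g, hnorm g ⟨s, hs, Commute.refl s, hg ▸ hst⟩⟩ : H) : H ⧸ _), Subtype.ext hg⟩
  have hIij : I = j * H.index := by
    rw [hI, hj]
    exact (relIndex_mul_index hsc).symm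
  have hj2 : 2 ≤ j := by
    obtain ⟨g, hne, hcomm⟩ := exists_commuting_conj hs
    haveI : Nontrivial J := ⟨⟨⟨_, (Involutions.orderOf_conj g s).trans hs, hcomm⟩, ⟨s, hs, Commute.refl s⟩,
      fun e => hne (congrArg Subtype.val e)⟩⟩
    exact Finite.one_lt_card
  have hjodd : ¬ 2 ∣ j := by
    intro h2
    have hcard : Nat.card O = j + 1 := by
      show _ = Nat.card J + 1
      rw [← Finite.card_option]
      refine (Nat.card_congr (⟨fun o => o.elim (1 : O) fun x => ⟨x.1,
          (hO _).mpr ⟨Involutions.mul_self_eq_one_of_orderOf x.2.1, x.2.2⟩⟩,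
        fun x => if hx : (x : G) = 1 then none else
          some ⟨x, Involutions.orderOf_eq_two_iff'.mpr ⟨((hO _).mp x.2).1, hx⟩, ((hO _).mp x.2).2⟩, ?_, ?_⟩ :
          Option J ≃ O)).symm
      · rintro (_ | x)
        · simp
        · have : (x.1 : G) ≠ 1 := fun e => by have := x.2.1; rw [e, orderOf_one] at this; omega
          simp [this]
      · intro x
        by_cases hx : (x : G) = 1
        · simp only [hx, dite_true, Option.elim]
          exact Subtype.ext hx.symm
        · simp [hx]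
    have : 2 ∣ Nat.card O := hs ▸ Subgroup.orderOf_dvd_natCard _ ((hO s).mpr ⟨hs2, Commute.refl s⟩)
    omega
  -- the inverted centralizers of the third order
  obtain ⟨w0, hw0, hw0c⟩ := h.exC
  let R := {x : G // cc x = c ∧ x ≠ 1 ∧ s * x * s⁻¹ = x⁻¹}
  have hR : I = j + Nat.card R := by
    show Nat.card Inv = _
    rw [← Nat.card_congr (Equiv.sumCompl fun t : Inv => Commute s t.1), Nat.card_sum]
    congr 1
    · exact Nat.card_congr ⟨fun t => ⟨t.1.1, t.1.2, t.2⟩, fun t => ⟨⟨t.1, t.2.1⟩, t.2.2⟩, fun _ => rfl, fun _ => rfl⟩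
    · have hmk : ∀ x : R, orderOf (s * x.1) = 2 ∧ ¬ Commute s (s * x.1) := by
        rintro ⟨x, hxc, hx1, hsx⟩
        have hsx' : s * x * s = x⁻¹ := by rw [← hsx, Involutions.inv_eq_self_of_orderOf hs]
        have hnc : ¬ Commute s (s * x) := fun e => by
          have e1 : s * x = x * s := mul_left_cancel (a := s) (e.eq.trans (by group))
          rw [show s * x * s⁻¹ = x from mul_inv_eq_iff_eq_mul.mpr e1] at hsx
          have h2 : orderOf x ∣ 2 := orderOf_dvd_of_pow_eq_one (by rw [pow_two]; exact mul_eq_one_iff_eq_inv.mpr hsx)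
          rcases (Nat.dvd_prime Nat.prime_two).mp h2 with e2 | e2
          · exact hx1 (orderOf_eq_one_iff.mp e2)
          · exact h.cc_invol_ne_c e2 hxc
        refine ⟨Involutions.orderOf_eq_two_iff'.mpr ⟨?_, fun e => hnc (by rw [e]; exact Commute.one_right s)⟩, hnc⟩
        calc s * x * (s * x) = s * x * s * x := by group
          _ = 1 := by rw [hsx', inv_mul_cancel]
      refine Nat.card_congr
        { toFun := fun t => ⟨s * t.1.1, (h.noncomm_mul_c hA hs t.1.2 t.2).1,
            fun e => (h.noncomm_mul_c hA hs t.1.2 t.2).2 (by rw [e, mul_one]),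
            Involutions.conj_mul_eq_inv hs2 (Involutions.mul_self_eq_one_of_orderOf t.1.2)⟩
          invFun := fun x => ⟨⟨s * x.1, (hmk x).1⟩, (hmk x).2⟩
          left_inv := fun t => Subtype.ext (Subtype.ext ?_)
          right_inv := fun x => Subtype.ext ?_ }
      · show s * (s * t.1.1) = t.1.1
        rw [← mul_assoc, hs2, one_mul]
      · show s * (s * x.1) = x.1
        rw [← mul_assoc, hs2, one_mul]
  set W := centralizer ({w0} : Set G)
  set N := normalizer (W : Set G)
  let K := {q : G ⧸ N // s • q = q}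
  have hfix : ∀ g : G, (s • ((g : G) : G ⧸ N) = (g : G ⧸ N)) ↔ g⁻¹ * s * g ∈ N := fun g => by
    show (((s * g : G) : G ⧸ N) = _) ↔ _
    rw [QuotientGroup.eq, ← inv_mem_iff]
    simp [mul_assoc]
  have hRc : Nat.card R = Nat.card K * (c - 1) := by
    let Wn := {v : W // v ≠ 1}
    have hWn : Nat.card Wn = c - 1 := by
      haveI := Fintype.ofFinite W
      rw [Nat.card_eq_fintype_card, Fintype.card_subtype_compl, Fintype.card_subtype_eq, ← Nat.card_eq_fintype_card]
      congr 1
    rw [← hWn, ← Nat.card_prod]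
    have hrep : ∀ q : G ⧸ N, ((Quotient.out q : G) : G ⧸ N) = q := fun q => QuotientGroup.out_eq' q
    let F : K × Wn → R := fun p => ⟨(Quotient.out p.1.1) * (p.2.1 : G) * (Quotient.out p.1.1)⁻¹, by
      have hn : (Quotient.out p.1.1 : G)⁻¹ * s * (Quotient.out p.1.1 : G) ∈ N := (hfix _).mp (by rw [hrep]; exact p.1.2)
      have hv1 : (p.2.1 : G) ≠ 1 := fun e => p.2.2 (Subtype.ext e)
      have ho : orderOf ((Quotient.out p.1.1 : G)⁻¹ * s * (Quotient.out p.1.1 : G)) = 2 := by
        have := (Involutions.orderOf_conj (Quotient.out p.1.1 : G)⁻¹ s).trans hs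
        rwa [inv_inv] at this
      have hi := h.inverts hw0 hw0c ho hn p.2.1.2
      refine ⟨(cc_conj _ _).trans (h.cc_c_comm hw0 hv1 hw0c p.2.1.2), fun e => hv1 (conj_eq_one_iff.mp e), ?_⟩
      set g : G := Quotient.out p.1.1
      calc s * (g * (p.2.1 : G) * g⁻¹) * s⁻¹ = g * (g⁻¹ * s * g * p.2.1 * (g⁻¹ * s * g)⁻¹) * g⁻¹ := by group
        _ = _ := by rw [hi]; group⟩
    refine (Nat.card_congr (Equiv.ofBijective F ⟨?_, ?_⟩)).symm
    · rintro ⟨q, v⟩ ⟨q', v'⟩ e
      have e' : (Quotient.out q.1 : G) * (v.1 : G) * (Quotient.out q.1 : G)⁻¹ =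
          (Quotient.out q'.1 : G) * (v'.1 : G) * (Quotient.out q'.1 : G)⁻¹ := congrArg Subtype.val e
      have hv1 : (v.1 : G) ≠ 1 := fun e => v.2 (Subtype.ext e)
      have hn : (Quotient.out q'.1 : G)⁻¹ * (Quotient.out q.1 : G) ∈ N := by
        refine h.mem_normalizer_of_conj hw0 hw0c v.1.2 hv1 ?_
        rw [show (Quotient.out q'.1 : G)⁻¹ * (Quotient.out q.1 : G) * (v.1 : G) *
          ((Quotient.out q'.1 : G)⁻¹ * (Quotient.out q.1 : G))⁻¹ = (Quotient.out q'.1 : G)⁻¹ *
            ((Quotient.out q.1 : G) * (v.1 : G) * (Quotient.out q.1 : G)⁻¹) * (Quotient.out q'.1 : G) by group, e',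
          show (Quotient.out q'.1 : G)⁻¹ * ((Quotient.out q'.1 : G) * (v'.1 : G) * (Quotient.out q'.1 : G)⁻¹) *
            (Quotient.out q'.1 : G) = (v'.1 : G) by group]
        exact v'.1.2
      obtain rfl : q' = q := Subtype.ext (by rw [← hrep q.1, ← hrep q'.1]; exact QuotientGroup.eq.mpr hn)
      exact Prod.ext rfl (Subtype.ext (Subtype.ext (mul_left_cancel (mul_right_cancel e'))))
    · rintro ⟨x, hxc, hx1, hsx⟩
      obtain ⟨g, hg⟩ := h.exists_conj_c hw0 hw0c hx1 hxc
      have hxW : g⁻¹ * x * g ∈ W := (hg x).mp (self_mem x)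
      set g' : G := Quotient.out (g : G ⧸ N)
      have hgg : g⁻¹ * g' ∈ N := QuotientGroup.eq.mp (hrep (g : G ⧸ N)).symm
      have hxW' : g'⁻¹ * x * g' ∈ W := by
        have := (mem_normalizer_iff.mp (inv_mem hgg) _).mp hxW
        rwa [show (g⁻¹ * g')⁻¹ * (g⁻¹ * x * g) * (g⁻¹ * g')⁻¹⁻¹ = g'⁻¹ * x * g' by group] at this
      have hne : g'⁻¹ * x * g' ≠ 1 := fun e => hx1 (by
        rw [show x = g' * (g'⁻¹ * x * g') * g'⁻¹ by group, e]; group)
      have hfixq : s • (g : G ⧸ N) = (g : G ⧸ N) := by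
        rw [← hrep (g : G ⧸ N)]
        refine (hfix g').mpr (h.normalizes hw0 hw0c hxW' hne ?_)
        calc g'⁻¹ * s * g' * (g'⁻¹ * x * g') * (g'⁻¹ * s * g')⁻¹ = g'⁻¹ * (s * x * s⁻¹) * g' := by group
          _ = _ := by rw [hsx]; group
      refine ⟨⟨⟨(g : G ⧸ N), hfixq⟩, ⟨⟨g'⁻¹ * x * g', hxW'⟩, fun e => hne (congrArg Subtype.val e)⟩⟩, Subtype.ext ?_⟩
      show g' * (g'⁻¹ * x * g') * g'⁻¹ = x
      group
  have hKdvd : Nat.card K ∣ cc s := by
    rcases isEmpty_or_nonempty K with he | ⟨⟨q0, hq0⟩⟩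
    · exfalso
      rw [hR, hRc, Nat.card_of_isEmpty, zero_mul, add_zero] at hIij
      have hi1 : H.index = 1 := by
        have : j * 1 = j * H.index := by rw [mul_one]; exact hIij
        exact (Nat.eq_of_mul_eq_mul_left (by omega) this).symm
      refine abelian_normal_absurd (hN := normalizer_eq_top_iff.mp (index_eq_one.mp hi1)) ?_
        (fun e => hs1 (mem_bot.mp (e ▸ (hO s).mpr ⟨hs2, Commute.refl s⟩)))
      intro x hx y hy
      have hxy := ((hO _).mp (mul_mem hx hy)).1
      calc x * y = x * (x * y * (x * y)) * y := by rw [hxy, mul_one]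
        _ = (x * x) * y * x * (y * y) := by group
        _ = _ := by rw [((hO _).mp hx).1, ((hO _).mp hy).1, one_mul, mul_one]
    · have horb : MulAction.orbit (centralizer ({s} : Set G)) q0 = {q | s • q = q} := by
        ext q
        constructor
        · rintro ⟨⟨d, hd⟩, rfl⟩
          show s • d • q0 = d • q0
          rw [← mul_smul, ← mem_cent.mp hd, mul_smul, hq0]
        · intro hq
          induction q0 using QuotientGroup.induction_on with
          | H p => induction q using QuotientGroup.induction_on with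
            | H p' =>
              have ho : ∀ g : G, orderOf (g⁻¹ * s * g) = 2 := fun g => by
                have := (Involutions.orderOf_conj g⁻¹ s).trans hs
                rwa [inv_inv] at this
              obtain ⟨-, v, hv, hve⟩ := h.conj_inverter hw0 hw0c (ho p) ((hfix p).mp hq0) (ho p') ((hfix p').mp hq)
              refine ⟨⟨p' * v * p⁻¹, mem_cent.mpr ?_⟩, QuotientGroup.eq.mpr ?_⟩
              · calc p' * v * p⁻¹ * s = p' * (v * (p⁻¹ * s * p) * v⁻¹) * (v * p⁻¹) := by group
                  _ = p' * (p'⁻¹ * s * p') * (v * p⁻¹) := by rw [hve]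
                  _ = _ := by group
              · show (p' * v * p⁻¹ * p)⁻¹ * p' ∈ N
                rw [show (p' * v * p⁻¹ * p)⁻¹ * p' = v⁻¹ by group]
                exact inv_mem (Subgroup.le_normalizer hv)
      have : Nat.card K = (MulAction.stabilizer (centralizer ({s} : Set G)) q0).index := by
        rw [MulAction.index_stabilizer, horb, ← Nat.card_coe_set_eq]
        rfl
      rw [this]
      exact index_dvd_card _
  have hcI : c ∣ I := by
    have h1 : cc s * I = b * c := by rw [h.mul_eq, hI]; exact Subgroup.card_mul_index _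
    rcases h.val s hs1 with e | e | e
    · exact (h.coprime_a.symm).dvd_of_dvd_mul_left (e ▸ h1 ▸ Dvd.intro_left b rfl)
    · exact (h.coprime.symm).dvd_of_dvd_mul_left (e ▸ h1 ▸ Dvd.intro_left b rfl)
    · exact absurd e (h.cc_invol_ne_c hs)
  have hHc : ∀ x ∈ H, x ≠ 1 → cc x ≠ c := by
    intro x hxH hx1 hxc
    obtain ⟨r, hr, hrd⟩ := Nat.exists_prime_and_dvd (n := orderOf x) (fun e => hx1 (orderOf_eq_one_iff.mp e))
    haveI := Fact.mk hr
    set y := x ^ (orderOf x / r)
    have hy : orderOf y = r := orderOf_pow_orderOf_div (orderOf_pos x).ne' hrd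
    have hyH : y ∈ H := pow_mem hxH _
    have hy1 : y ≠ 1 := fun e => by rw [e, orderOf_one] at hy; exact hr.one_lt.ne hy
    have hyc : cc y = c := h.cc_c_comm hx1 hy1 hxc (pow_mem (self_mem x) _)
    have hrc : r ∣ c := hy ▸ hyc ▸ orderOf_dvd_cc (self_mem y)
    letI : MulAction (zpowers y) J :=
      { smul := fun g t => ⟨(g : G) * t.1 * (g : G)⁻¹, (Involutions.orderOf_conj _ _).trans t.2.1,
          hconjJ g ((zpowers_le.mpr hyH) g.2) t.1 t.2.1 t.2.2⟩
        one_smul := fun t => Subtype.ext (show ((1 : zpowers y) : G) * t.1 * ((1 : zpowers y) : G)⁻¹ = t.1 by simp)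
        mul_smul := fun p q t => Subtype.ext (show ((p * q : zpowers y) : G) * t.1 * ((p * q : zpowers y) : G)⁻¹ =
          (p : G) * ((q : G) * t.1 * (q : G)⁻¹) * (p : G)⁻¹ by push_cast; group) }
    have hp : IsPGroup r (zpowers y) := IsPGroup.of_card (n := 1) (by rw [Nat.card_zpowers, hy, pow_one])
    have hrj : r ∣ j := by
      by_contra hndvd
      obtain ⟨t, ht⟩ := hp.nonempty_fixed_point_of_prime_not_dvd_card J hndvd
      have e := congrArg Subtype.val (ht ⟨y, mem_zpowers y⟩)
      have hyt : t.1 ∈ centralizer ({y} : Set G) := mem_cent.mpr (mul_inv_eq_iff_eq_mul.mp e).symm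
      exact h.c_odd (hyc ▸ t.2.1 ▸ orderOf_dvd_cc hyt)
    have hd : r ∣ Nat.card K * (c - 1) := by
      rw [← hRc]
      exact (Nat.dvd_add_right hrj).mp (hR ▸ hrc.trans hcI)
    rcases hr.dvd_mul.mp hd with e | e
    · have hks := e.trans hKdvd
      have hb : r ∣ b := by
        rcases h.val s hs1 with e1 | e1 | e1
        · exact (e1 ▸ hks).trans h.hab
        · exact e1 ▸ hks
        · exact absurd e1 (h.cc_invol_ne_c hs)
      have := h.coprime
      exact Nat.Prime.not_coprime_iff_dvd.mpr ⟨r, hr, hb, hrc⟩ this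
    · have hc1 : c - 1 + 1 = c := Nat.sub_add_cancel h.pos.2
      exact hr.one_lt.ne' (Nat.dvd_one.mp ((Nat.dvd_add_right e).mp (hc1.symm ▸ hrc)))
  have hHinv : ∀ t : G, orderOf t = 2 → t ∈ H → Commute s t := by
    intro t ht htH
    letI : MulAction (zpowers t) J :=
      { smul := fun g q => ⟨(g : G) * q.1 * (g : G)⁻¹, (Involutions.orderOf_conj _ _).trans q.2.1,
          hconjJ g ((zpowers_le.mpr htH) g.2) q.1 q.2.1 q.2.2⟩
        one_smul := fun q => Subtype.ext (show ((1 : zpowers t) : G) * q.1 * ((1 : zpowers t) : G)⁻¹ = q.1 by simp)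
        mul_smul := fun p q v => Subtype.ext (show ((p * q : zpowers t) : G) * v.1 * ((p * q : zpowers t) : G)⁻¹ =
          (p : G) * ((q : G) * v.1 * (q : G)⁻¹) * (p : G)⁻¹ by push_cast; group) }
    have hp : IsPGroup 2 (zpowers t) := IsPGroup.of_card (n := 1) (by rw [Nat.card_zpowers, ht, pow_one])
    obtain ⟨q, hq⟩ := hp.nonempty_fixed_point_of_prime_not_dvd_card J hjodd
    have e := congrArg Subtype.val (hq ⟨t, mem_zpowers t⟩)
    exact h.invol_trans hA q.2.1 hs ht q.2.2.symm (mul_inv_eq_iff_eq_mul.mp e).symm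
  have hle : Nat.card R + 1 ≤ H.index := by
    have hRI : Nat.card R = Nat.card {t : Inv // ¬ Commute s t.1} := by
      have h1 : I = j + Nat.card {t : Inv // ¬ Commute s t.1} := by
        show Nat.card Inv = _
        rw [← Nat.card_congr (Equiv.sumCompl fun t : Inv => Commute s t.1), Nat.card_sum]
        congr 1
        exact Nat.card_congr ⟨fun t => ⟨t.1.1, t.1.2, t.2⟩, fun t => ⟨⟨t.1, t.2.1⟩, t.2.2⟩, fun _ => rfl, fun _ => rfl⟩
      omega
    rw [hRI, Subgroup.index_eq_card, ← Finite.card_option]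
    refine Nat.card_le_card_of_injective
      (fun o : Option {t : Inv // ¬ Commute s t.1} => o.elim ((1 : G) : G ⧸ H) fun t => ((t.1.1 : G) : G ⧸ H)) ?_
    have hout : ∀ t : {t : Inv // ¬ Commute s t.1}, ((1 : G) : G ⧸ H) ≠ ((t.1.1 : G) : G ⧸ H) := fun t e =>
      t.2 (hHinv _ t.1.2 (by simpa using QuotientGroup.eq.mp e))
    rintro (_ | t) (_ | t') e
    · rfl
    · exact absurd e (hout t')
    · exact absurd e.symm (hout t)
    · refine congrArg some (Subtype.ext (Subtype.ext ?_))
      have hm := QuotientGroup.eq.mp e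
      rw [Involutions.inv_eq_self_of_orderOf t.1.2] at hm
      by_contra hne
      have hne1 : t.1.1 * t'.1.1 ≠ 1 := fun e1 => hne (by
        rw [mul_eq_one_iff_eq_inv.mp e1, Involutions.inv_eq_self_of_orderOf t'.1.2])
      by_cases hcomm : Commute t.1.1 t'.1.1
      · have hv : orderOf (t.1.1 * t'.1.1) = 2 := Involutions.orderOf_eq_two_iff'.mpr ⟨by
          calc t.1.1 * t'.1.1 * (t.1.1 * t'.1.1) = t.1.1 * (t'.1.1 * t.1.1) * t'.1.1 := by group
            _ = (t.1.1 * t.1.1) * (t'.1.1 * t'.1.1) := by rw [← hcomm.eq]; group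
            _ = 1 := by
              rw [Involutions.mul_self_eq_one_of_orderOf t.1.2, Involutions.mul_self_eq_one_of_orderOf t'.1.2,
                mul_one], hne1⟩
        exact t.2 (h.invol_trans hA hv hs t.1.2 (hHinv _ hv hm).symm
          (((Commute.refl t.1.1).mul_right hcomm).symm))
      · exact hHc _ hm hne1 (h.noncomm_mul_c hA t.1.2 t'.1.2 hcomm).1
  rw [hR] at hIij
  have hi1 : H.index = 1 := by nlinarith
  refine abelian_normal_absurd (hN := normalizer_eq_top_iff.mp (index_eq_one.mp hi1)) ?_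
    (fun e => hs1 (mem_bot.mp (e ▸ (hO s).mpr ⟨hs2, Commute.refl s⟩)))
  intro x hx y hy
  have hxy := ((hO _).mp (mul_mem hx hy)).1
  calc x * y = x * (x * y * (x * y)) * y := by rw [hxy, mul_one]
    _ = (x * x) * y * x * (y * y) := by group
    _ = _ := by rw [((hO _).mp hx).1, ((hO _).mp hy).1, one_mul, mul_one]

end Chain

end CfsgLib.ConjRankThree
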