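import Cfsg.Agent.Lib.ConjRankThree.Split
import Cfsg.Agent.Lib.CAEven.Chars
import Cfsg.Agent.Lib.Involutions
import Cfsg.Agent.S0215
import Cfsg.Agent.S0205

set_option autoImplicit false

/-!
The third centralizer order is odd.
-/

namespace CfsgLib.ConjRankThree

open Subgroup

universe u

variable {G : Type u} [Group G] [Finite G] [Mono G] {a b c : ℕ}

theorem exists_commuting_conj {z : G} (hz : orderOf z = 2) :
    ∃ g : G, g * z * g⁻¹ ≠ z ∧ Commute z (g * z * g⁻¹) := by
  by_contra hcon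
  push Not at hcon
  haveI : Fact (Nat.Prime 2) := ⟨Nat.prime_two⟩
  obtain ⟨P, hzP⟩ := exists_sylow_of_mem (x := z) (r := 2) ⟨1, by rw [hz, pow_one]⟩
  have hz1 : z ≠ 1 := fun e => by rw [e, orderOf_one] at hz; omega
  have hiso : ∀ g : G, g * z * g⁻¹ ∈ P → g * z * g⁻¹ = z := by
    intro g hg
    have hodd := Involutions.odd_of_isolated hz (fun k hk => by_contra fun hne => hcon k hne hk) g
    obtain ⟨k, hk⟩ := P.2 ⟨z * (g * z * g⁻¹), mul_mem hzP hg⟩
    obtain ⟨i, -, hi⟩ := (Nat.dvd_prime_pow Nat.prime_two).mp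
      (show orderOf (z * (g * z * g⁻¹)) ∣ 2 ^ k from orderOf_dvd_of_pow_eq_one (congrArg Subtype.val hk))
    rw [hi] at hodd
    have hi0 : i = 0 := by
      by_contra h0
      exact (Nat.not_even_iff_odd.mpr hodd) (Nat.even_pow.mpr ⟨even_two, h0⟩)
    rw [hi0, pow_zero, orderOf_eq_one_iff, mul_eq_one_iff_eq_inv, Involutions.inv_eq_self_of_orderOf
      ((Involutions.orderOf_conj g z).trans hz)] at hi
    exact hi.symm
  obtain ⟨N, hN, hodd, hcom⟩ := Cfsg.Agent.S0215.result P z hz hzP hiso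
  haveI := hN
  rcases eq_or_ne N ⊥ with e | e
  · refine class_comm_absurd hz1 fun g => ?_
    have hc : ∀ g : G, z * g = g * z := fun g => by
      have := mem_bot.mp (e ▸ hcom g)
      rwa [mul_inv_eq_one, mul_inv_eq_iff_eq_mul] at this
    exact (hc _).symm
  · exact solvable_normal_absurd (Cfsg.Agent.S0205.result hodd) e

namespace Chain

theorem c_odd (h : Chain G a b c) : ¬ 2 ∣ c := by
  intro h2
  haveI : Fact (Nat.Prime 2) := ⟨Nat.prime_two⟩
  obtain ⟨s, hs⟩ := exists_prime_orderOf_dvd_card' (G := G) 2 (h2.trans h.dvd_g.2)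
  have hval : ∀ t : G, orderOf t = 2 → cc t = c := fun t ht => by
    have ht1 : t ≠ 1 := fun e => by rw [e, orderOf_one] at ht; omega
    rcases h.orderOf_dvd ht1 with ⟨e, -, -⟩ | ⟨-, -, hn⟩
    · exact e
    · exact absurd (ht ▸ h2) hn
  have hs1 : s ≠ 1 := fun e => by rw [e, orderOf_one] at hs; omega
  have hs2 := Involutions.mul_self_eq_one_of_orderOf hs
  have hcent : ∀ t : G, orderOf t = 2 → ∀ l ∈ centralizer ({t} : Set G), l ≠ 1 →
      centralizer ({l} : Set G) = centralizer ({t} : Set G) :=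
    fun t ht l hl hl1 => h.cent_c (fun e => by rw [e, orderOf_one] at ht; omega) (hval t ht) hl hl1
  have hout : ∀ t u : G, orderOf t = 2 → orderOf u = 2 → u ∉ centralizer ({t} : Set G) →
      ∃ g : G, u = g * t * g⁻¹ := by
    intro t u ht hu hut
    have ht2 := Involutions.mul_self_eq_one_of_orderOf ht
    have hu2 := Involutions.mul_self_eq_one_of_orderOf hu
    have hodd : Odd (orderOf (t * u)) := by
      rw [← Nat.not_even_iff_odd]
      intro hev
      obtain ⟨h1, h2'⟩ := Involutions.central_half ht2 hu2 hev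
      have ho := Involutions.orderOf_half (x := t) (y := u) hev
      refine hut ?_
      rw [← hcent t ht _ (mem_cent.mpr h1.eq) (fun e => by rw [e, orderOf_one] at ho; omega)]
      exact mem_cent.mpr h2'.eq.symm
    obtain ⟨d, -, e⟩ := Involutions.exists_conj_eq_of_odd ht2 hu2 hodd
    exact ⟨d, e.symm⟩
  obtain ⟨u, hu, hus⟩ : ∃ u : G, orderOf u = 2 ∧ u ∉ centralizer ({s} : Set G) := by
    by_contra hcon
    push Not at hcon
    exact class_cent_absurd hs1 hs1 fun g => hcon _ ((Involutions.orderOf_conj g s).trans hs)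
  let S : CAEven.Setup G :=
    { A := centralizer ({s} : Set G)
      s := s
      ord := hs
      mem := self_mem s
      cent := fun x hx hx1 => hcent s hs x hx hx1
      conj := fun t ht => by
        by_cases htA : t ∈ centralizer ({s} : Set G)
        · obtain ⟨g, hg⟩ := hout s u hs hu hus
          obtain ⟨g', hg'⟩ := hout t u ht hu (fun e => hus (by
            rw [← hcent s hs t htA (fun e1 => by rw [e1, orderOf_one] at ht; omega)]; exact e))
          refine ⟨g'⁻¹ * g, ?_⟩
          calc t = g'⁻¹ * (g' * t * g'⁻¹) * g' := by group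
            _ = g'⁻¹ * (g * s * g⁻¹) * g' := by rw [← hg', hg]
            _ = _ := by group
        · exact hout s t hs ht htA
      notNormal := fun e => abelian_normal_absurd (hN := normalizer_eq_top_iff.mp e)
        (fun x hx y hy => h.comm_c hs1 (hval s hs) hx hy) (fun e' => hs1 (mem_bot.mp (e' ▸ self_mem s))) }
  have hj : 2 ≤ S.j := by
    obtain ⟨g, hne, hcomm⟩ := exists_commuting_conj hs
    have ho := (Involutions.orderOf_conj g s).trans hs
    have h1 : g * s * g⁻¹ ∈ S.Om ∧ g * s * g⁻¹ ≠ 1 :=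
      S.invol_iff.mp ⟨ho, mem_cent.mpr hcomm.eq.symm⟩
    have h0 : s ∈ S.Om ∧ s ≠ 1 := S.invol_iff.mp ⟨hs, self_mem s⟩
    haveI : Nontrivial {x : G // x ∈ S.Om ∧ x ≠ 1} :=
      ⟨⟨⟨_, h1⟩, ⟨_, h0⟩, fun e => hne (congrArg Subtype.val e)⟩⟩
    exact Finite.one_lt_card
  obtain ⟨y, hy1, hy⟩ := h.exB
  have hA : Nat.card S.A = c := hval s hs
  letI := Fintype.ofFinite G
  have huniq : ∀ {d : ℕ}, d.Prime → d ∣ c → d = 2 := by
    intro d hd hdc
    haveI := Fact.mk hd
    obtain ⟨x, hx⟩ := exists_prime_orderOf_dvd_card' (G := S.A) d (hA ▸ hdc)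
    rw [← Subgroup.orderOf_coe] at hx
    have h2d : d ∣ 2 := hx ▸ orderOf_dvd_of_pow_eq_one (by rw [pow_two]; exact S.sq_eq_one hj x.2)
    exact (Nat.prime_dvd_prime_iff_eq hd Nat.prime_two).mp h2d
  have hpow := Nat.eq_prime_pow_of_unique_prime_dvd h.pos.2.ne' huniq
  exact index_not_primePow hy1 Nat.prime_two (hy ▸ hpow ▸ h.mul_eq.symm)

theorem two_dvd_b (h : Chain G a b c) (heven : 2 ∣ Nat.card G) : 2 ∣ b :=
  ((Nat.prime_two.dvd_mul).mp (h.mul_eq ▸ heven)).resolve_right h.c_odd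

end Chain

end CfsgLib.ConjRankThree
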