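import Cfsg.Agent.Lib.CharTheory.SmallPartitionChars
import Cfsg.Agent.Lib.CAEven.Chars
import Cfsg.Agent.Lib.CharTheory.TI

set_option autoImplicit false
set_option linter.unusedSectionVars false

/-!
An abelian subgroup containing the centralizer of each of its non-identity elements, regular in a
permutation representation: the action is doubly transitive or all two-point stabilizers have one order.
-/

namespace CfsgLib.ConjRankThree

open Subgroup Cfsg CfsgLib.CharTheory
open scoped ComplexConjugate IsMulCommutative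

universe u

/-- An abelian subgroup regular on the cosets of another subgroup. -/
structure Reg (G : Type u) [Group G] where
  W : Subgroup G
  M : Subgroup G
  comm : ∀ x ∈ W, ∀ y ∈ W, x * y = y * x
  cent : ∀ x ∈ W, x ≠ 1 → centralizer ({x} : Set G) = W
  prod : Nat.card W * Nat.card M = Nat.card G
  ti : ∀ (g : G), ∀ x ∈ W, g⁻¹ * x * g ∈ M → x = 1

variable {G : Type u} [Group G] [Finite G] (S : Reg G)

namespace Reg

/-- The normalizer. -/
abbrev N : Subgroup G := normalizer (S.W : Set G)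

/-- The index of the subgroup in its normalizer. -/
noncomputable def e : ℕ := (S.W.subgroupOf S.N).index

theorem W_le_N : S.W ≤ S.N := Subgroup.le_normalizer

theorem conj_mem {y x : G} (hy : y ∈ S.N) (hx : x ∈ S.W) : y⁻¹ * x * y ∈ S.W := by
  simpa using (mem_normalizer_iff.mp (inv_mem hy) x).mp hx

theorem card_N : Nat.card S.N = Nat.card S.W * S.e := by
  rw [e, ← Nat.card_congr (Subgroup.subgroupOfEquivOfLe S.W_le_N).toEquiv, Subgroup.card_mul_index]

theorem bij (g : G) : Function.Bijective fun x : S.W => (((x : G) * g : G) : G ⧸ S.M) := by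
  rw [Nat.bijective_iff_injective_and_card]
  refine ⟨fun x y h => ?_, ?_⟩
  · have h' := QuotientGroup.eq.mp h
    rw [show ((x : G) * g)⁻¹ * ((y : G) * g) = g⁻¹ * ((x : G)⁻¹ * y) * g by group] at h'
    exact Subtype.ext (inv_mul_eq_one.mp (S.ti g _ (mul_mem (inv_mem x.2) y.2) h'))
  · have h := (S.M.index_mul_card).trans S.prod.symm
    rw [← Subgroup.index_eq_card]
    exact (Nat.eq_of_mul_eq_mul_right Nat.card_pos h).symm

theorem card_X : Nat.card (G ⧸ S.M) = Nat.card S.W := (Nat.card_congr (Equiv.ofBijective _ (S.bij 1))).symm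

theorem mem_of_fix {y : G} (hy : y ∈ S.N) {x : G} (hx : x ∈ S.W) (hx1 : x ≠ 1) (h : y⁻¹ * x * y = x) : y ∈ S.W := by
  rw [← S.cent x hx hx1]
  refine mem_centralizer_singleton_iff.mpr ?_
  calc y * x = y * (y⁻¹ * x * y) := by rw [h]
    _ = x * y := by group

/-- The two-point stabilizers are small. -/
theorem card_stab_le {g : G} (hg : g ∉ S.M) :
    Nat.card (S.M ⊓ S.M.comap (MulAut.conj g⁻¹).toMonoidHom : Subgroup G) * S.e ≤ Nat.card S.M := by
  classical
  set D := S.M ⊓ S.M.comap (MulAut.conj g⁻¹).toMonoidHom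
  set E := S.N ⊓ S.M
  have hE : Nat.card E = S.e := by
    refine Nat.eq_of_mul_eq_mul_left (Nat.card_pos (α := S.W)) ?_
    rw [← S.card_N, ← Nat.card_prod]
    refine Nat.card_congr (Equiv.ofBijective
      (fun p : S.W × E => (⟨(p.1 : G) * p.2, mul_mem (S.W_le_N p.1.2) p.2.2.1⟩ : S.N)) ⟨?_, ?_⟩)
    · rintro ⟨x, u⟩ ⟨y, v⟩ h
      have h' : (x : G) * u = y * v := congrArg Subtype.val h
      have hxy : x = y := (S.bij 1).1 (by
        refine QuotientGroup.eq.mpr ?_
        rw [show ((x : G) * 1)⁻¹ * ((y : G) * 1) = (x : G)⁻¹ * ((y : G) * v) * (v : G)⁻¹ by group, ← h',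
          show (x : G)⁻¹ * ((x : G) * u) * (v : G)⁻¹ = (u : G) * (v : G)⁻¹ by group]
        exact mul_mem u.2.2 (inv_mem v.2.2))
      subst hxy
      exact Prod.ext rfl (Subtype.ext (mul_left_cancel h'))
    · rintro ⟨n, hn⟩
      obtain ⟨x, hx⟩ := (S.bij 1).2 (n : G ⧸ S.M)
      have hm := QuotientGroup.eq.mp hx
      rw [mul_one] at hm
      exact ⟨⟨x, ⟨(x : G)⁻¹ * n, (S.N).mul_mem ((S.N).inv_mem (S.W_le_N x.2)) hn, hm⟩⟩,
        Subtype.ext (mul_inv_cancel_left _ _)⟩
  rw [← hE, mul_comm, ← Nat.card_prod]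
  refine Nat.card_le_card_of_injective
    (fun p : E × D => (⟨(p.1 : G) * p.2, mul_mem p.1.2.2 p.2.2.1⟩ : S.M)) ?_
  rintro ⟨u, d⟩ ⟨v, d'⟩ h
  have h' : (u : G) * d = v * d' := congrArg Subtype.val h
  have key : ∀ y : G, y ∈ E → y ∈ D → y = 1 := by
    intro y hyE hyD
    obtain ⟨x, hx⟩ := (S.bij 1).2 (g : G ⧸ S.M)
    have hm : (x : G)⁻¹ * g ∈ S.M := by simpa using QuotientGroup.eq.mp hx
    have hx1 : (x : G) ≠ 1 := fun e1 => hg (by simpa [e1] using hm)
    have hy2 : g⁻¹ * y * g ∈ S.M := by simpa using hyD.2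
    have hxy : y * (x : G) * y⁻¹ = x := by
      have h1 : y * (x : G) * y⁻¹ ∈ S.W := (mem_normalizer_iff.mp hyE.1 _).mp x.2
      refine congrArg Subtype.val ((S.bij 1).1 (a₁ := ⟨_, h1⟩) (a₂ := x) ?_)
      refine QuotientGroup.eq.mpr ?_
      show (y * (x : G) * y⁻¹ * 1)⁻¹ * ((x : G) * 1) ∈ S.M
      rw [show (y * (x : G) * y⁻¹ * 1)⁻¹ * ((x : G) * 1) =
        y * ((x : G)⁻¹ * g) * (g⁻¹ * y * g)⁻¹ * ((x : G)⁻¹ * g)⁻¹ by group]
      exact mul_mem (mul_mem (mul_mem hyE.2 hm) (inv_mem hy2)) (inv_mem hm)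
    have hyW : y ∈ S.W := by
      rw [← S.cent x x.2 hx1]
      exact mem_centralizer_singleton_iff.mpr (mul_inv_eq_iff_eq_mul.mp hxy)
    exact S.ti 1 y hyW (by simpa using hyE.2)
  have h1 : (v : G)⁻¹ * u = 1 := key _ (mul_mem (inv_mem v.2) u.2) (by
    rw [show (v : G)⁻¹ * u = d' * (d : G)⁻¹ by
      calc (v : G)⁻¹ * u = (v : G)⁻¹ * ((u : G) * d) * (d : G)⁻¹ := by group
        _ = _ := by rw [h']; group]
    exact mul_mem d'.2 (inv_mem d.2))
  have huv : u = v := Subtype.ext (inv_mul_eq_one.mp h1).symm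
  subst huv
  exact Prod.ext rfl (Subtype.ext (mul_left_cancel h'))

/-- Conjugation of the abelian subgroup by an element of its normalizer. -/
def cW (y : S.N) : S.W →* S.W where
  toFun x := ⟨(y : G)⁻¹ * x * y, S.conj_mem y.2 x.2⟩
  map_one' := Subtype.ext (show (y : G)⁻¹ * ((1 : S.W) : G) * y = ((1 : S.W) : G) by simp)
  map_mul' a b := Subtype.ext
    (show (y : G)⁻¹ * ((a : G) * b) * y = (y : G)⁻¹ * a * y * ((y : G)⁻¹ * b * y) by group)

theorem cW_val (y : S.N) (x : S.W) : ((S.cW y x : S.W) : G) = (y : G)⁻¹ * x * y := rfl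

theorem comp_cW_eq_iff {φ : S.W →* ℂˣ} (hφ : φ ≠ 1) (y : S.N) : φ.comp (S.cW y) = φ ↔ (y : G) ∈ S.W := by
  constructor
  · intro h
    by_contra hy
    let f : S.W → S.W := fun x => S.cW y x * x⁻¹
    have hinj : Function.Injective f := by
      intro a b e1
      by_contra hab
      refine hy (S.mem_of_fix y.2 (mul_mem (inv_mem b.2) a.2)
        (fun e2 => hab (Subtype.ext (inv_mul_eq_one.mp e2).symm)) ?_)
      have e' : (y : G)⁻¹ * a * y * (a : G)⁻¹ = (y : G)⁻¹ * b * y * (b : G)⁻¹ := congrArg Subtype.val e1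
      calc (y : G)⁻¹ * ((b : G)⁻¹ * a) * y
          = ((y : G)⁻¹ * b * y)⁻¹ * ((y : G)⁻¹ * a * y * (a : G)⁻¹) * a := by group
        _ = ((y : G)⁻¹ * b * y)⁻¹ * ((y : G)⁻¹ * b * y * (b : G)⁻¹) * a := by rw [e']
        _ = _ := by group
    refine hφ (MonoidHom.ext fun z => ?_)
    obtain ⟨x, hx⟩ := (Finite.injective_iff_surjective.mp hinj) z
    rw [← hx, MonoidHom.one_apply]
    show φ (S.cW y x * x⁻¹) = 1
    rw [map_mul, ← MonoidHom.comp_apply, h, ← map_mul, mul_inv_cancel, map_one]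
  · intro hy
    refine MonoidHom.ext fun x => congrArg φ (Subtype.ext ?_)
    rw [cW_val, mul_assoc, S.comm _ x.2 _ hy, inv_mul_cancel_left]

/-- The non-principal linear characters. -/
abbrev Chs : Type u := {φ : S.W →* ℂˣ // φ ≠ 1}

/-- The action of the normalizer on the characters. -/
@[reducible] def actC : MulAction S.N S.Chs where
  smul y φ := ⟨φ.1.comp (S.cW y), fun e1 => φ.2 (MonoidHom.ext fun x => by
    have := DFunLike.congr_fun e1 (⟨(y : G) * x * (y : G)⁻¹, (mem_normalizer_iff.mp y.2 _).mp x.2⟩ : S.W)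
    rw [MonoidHom.comp_apply, MonoidHom.one_apply] at this
    rw [MonoidHom.one_apply, ← this]
    refine congrArg φ.1 (Subtype.ext ?_)
    rw [cW_val]
    group)⟩
  one_smul φ := Subtype.ext (MonoidHom.ext fun x => congrArg φ.1 (Subtype.ext
    (show ((1 : S.N) : G)⁻¹ * x * ((1 : S.N) : G) = x by simp)))
  mul_smul a b φ := Subtype.ext (MonoidHom.ext fun x => congrArg φ.1 (Subtype.ext
    (show ((a * b : S.N) : G)⁻¹ * x * ((a * b : S.N) : G) =
      (b : G)⁻¹ * ((a : G)⁻¹ * x * (a : G)) * (b : G) by push_cast; group)))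

theorem index_stab (φ : S.Chs) : (letI := S.actC; MulAction.stabilizer S.N φ).index = S.e := by
  letI := S.actC
  unfold e
  congr 1
  ext y
  rw [MulAction.mem_stabilizer_iff, mem_subgroupOf, ← S.comp_cW_eq_iff φ.2 y]
  exact ⟨fun h => congrArg Subtype.val h, fun h => Subtype.ext h⟩

/-- A linear character as a function. -/
def lin (φ : S.W →* ℂˣ) : S.W → ℂ := fun x => (φ x : ℂ)

theorem lin_irr (φ : S.W →* ℂˣ) : IsIrrCharacter S.W (S.lin φ) := isIrrCharacter_linear φ

theorem lin_inj {φ χ : S.W →* ℂˣ} (h : S.lin φ = S.lin χ) : φ = χ :=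
  MonoidHom.ext fun x => Units.ext (congrFun h x)

theorem lin_sum (φ : S.W →* ℂˣ) (hφ : φ ≠ 1) [Fintype S.W] : ∑ x : S.W, (φ x : ℂ) = 0 := by
  obtain ⟨x₀, hx₀⟩ : ∃ x, φ x ≠ 1 := by
    by_contra h
    push Not at h
    exact hφ (MonoidHom.ext h)
  have e1 : ∑ x : S.W, (φ x : ℂ) = (φ x₀ : ℂ) * ∑ x : S.W, (φ x : ℂ) := by
    rw [Finset.mul_sum]
    refine (Fintype.sum_equiv (Equiv.mulLeft x₀) _ _ fun t => ?_).symm
    rw [← Units.val_mul, ← map_mul]
    rfl
  refine (mul_eq_zero.mp ?_).resolve_left (sub_ne_zero.mpr fun e2 : (φ x₀ : ℂ) = 1 => hx₀ (Units.ext e2))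
  rw [sub_mul, one_mul, ← e1, sub_self]

variable [Fintype G]

open scoped Classical

/-- The permutation character. -/
noncomputable def perm : G → ℂ := SmallPartitionChars.fixChar G (G ⧸ S.M)

theorem perm_char : IsCharacter G S.perm := by
  haveI := Fintype.ofFinite (G ⧸ S.M)
  exact SmallPartitionChars.isCharacter_fixChar _

theorem perm_W (x : S.W) : S.perm (x : G) = if x = 1 then (Nat.card S.W : ℂ) else 0 := by
  unfold perm SmallPartitionChars.fixChar
  split
  · next h =>
    subst h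
    rw [← S.card_X]
    exact congrArg Nat.cast (Nat.card_congr (Equiv.subtypeUnivEquiv fun q => by
      rw [MulAction.mem_fixedBy, OneMemClass.coe_one, one_smul]))
  · next h =>
    rw [Nat.cast_eq_zero, Nat.card_eq_zero]
    refine Or.inl ⟨fun ⟨q, hq⟩ => h ?_⟩
    induction q using QuotientGroup.induction_on with
    | H g =>
      refine Subtype.ext (S.ti g _ x.2 ?_)
      have := QuotientGroup.eq.mp (show ((g : G) : G ⧸ S.M) = (((x : G) * g : G) : G ⧸ S.M) from hq.symm)
      simpa [mul_assoc] using this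

theorem perm_lin (φ : S.W →* ℂˣ) : classInner (fun x : S.W => S.perm x) (S.lin φ) = 1 := by
  simp only [classInner, S.perm_W, lin, ite_mul, zero_mul, Finset.sum_ite_eq', Finset.mem_univ, if_true,
    map_one, Units.val_one, mul_one]
  exact inv_mul_cancel₀ (Nat.cast_ne_zero.mpr Nat.card_pos.ne')

/-- The multiplicity of a linear character in a restriction. -/
noncomputable def mult (ψ : G → ℂ) (φ : S.W →* ℂˣ) : ℂ := classInner (fun x : S.W => ψ x) (S.lin φ)

theorem mult_nat {ψ : G → ℂ} (hψ : IsCharacter G ψ) (φ : S.W →* ℂˣ) : ∃ m : ℕ, S.mult ψ φ = m :=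
  classInner_char_nat (isCharacter_restrict hψ S.W) (isCharacter_of_irr (S.lin_irr φ))

theorem exists_const (φ : S.W →* ℂˣ) : ∃ ψ : IrrCharacter G, classInner S.perm ψ.1 = 1 ∧ S.mult ψ.1 φ = 1 ∧
    ∀ ψ' : IrrCharacter G, classInner S.perm ψ'.1 ≠ 0 → ψ' ≠ ψ → S.mult ψ'.1 φ = 0 := by
  choose n hn using fun ψ : IrrCharacter G => classInner_char_nat S.perm_char (isCharacter_of_irr ψ.2)
  choose m hm using fun ψ : IrrCharacter G => S.mult_nat (isCharacter_of_irr ψ.2) φ
  have hsum : ∑ ψ : IrrCharacter G, n ψ * m ψ = 1 := by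
    have h1 : (∑ ψ : IrrCharacter G, n ψ * m ψ : ℕ) = (1 : ℂ) := by
      rw [← S.perm_lin φ]
      have e1 : (fun x : S.W => S.perm x) =
          ∑ ψ : IrrCharacter G, classInner S.perm ψ.1 • (fun x : S.W => ψ.1 x) := by
        funext x
        conv_lhs => rw [eq_sum_irr (isClassFunction_char S.perm_char)]
        simp
      rw [e1, classInner_sum_left, Nat.cast_sum]
      refine Finset.sum_congr rfl fun ψ _ => ?_
      rw [classInner_smul_left, Nat.cast_mul, hn, ← hm]
      rfl
    exact_mod_cast h1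
  obtain ⟨ψ, -, hψ⟩ := Finset.exists_ne_zero_of_sum_ne_zero (hsum.trans_ne one_ne_zero)
  have hrest := Finset.sum_eq_add_sum_sdiff_singleton_of_mem (Finset.mem_univ ψ) (fun ψ => n ψ * m ψ)
  have hone : n ψ * m ψ = 1 := by
    have := Nat.pos_of_ne_zero hψ
    omega
  refine ⟨ψ, ?_, ?_, fun ψ' h1 h2 => ?_⟩
  · rw [hn, Nat.eq_one_of_mul_eq_one_right hone, Nat.cast_one]
  · rw [hm, Nat.eq_one_of_mul_eq_one_left hone, Nat.cast_one]
  · have h3 : ∑ x ∈ Finset.univ \ {ψ}, n x * m x = 0 := by omega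
    have h4 := Finset.sum_eq_zero_iff.mp h3 ψ' (by simp [h2])
    rw [hm, (mul_eq_zero.mp h4).resolve_left (fun e1 => h1 (by rw [hn, e1, Nat.cast_zero])), Nat.cast_zero]

/-- The constituent over a linear character. -/
noncomputable def cons (φ : S.W →* ℂˣ) : IrrCharacter G := (S.exists_const φ).choose

theorem cons_spec (φ : S.W →* ℂˣ) : classInner S.perm (S.cons φ).1 = 1 ∧ S.mult (S.cons φ).1 φ = 1 ∧
    ∀ ψ' : IrrCharacter G, classInner S.perm ψ'.1 ≠ 0 → ψ' ≠ S.cons φ → S.mult ψ'.1 φ = 0 :=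
  (S.exists_const φ).choose_spec

theorem cons_smul (φ : S.W →* ℂˣ) (y : S.N) : S.cons (φ.comp (S.cW y)) = S.cons φ := by
  by_contra hne
  have h0 := (S.cons_spec φ).2.2 (S.cons (φ.comp (S.cW y)))
    (by rw [(S.cons_spec _).1]; exact one_ne_zero) hne
  have hinj : Function.Injective (S.cW y) := by
    intro x x' hxx
    have h' : (y : G)⁻¹ * x * y = (y : G)⁻¹ * x' * y := congrArg Subtype.val hxx
    exact Subtype.ext (mul_left_cancel (mul_right_cancel h'))
  have h1 : S.mult (S.cons (φ.comp (S.cW y))).1 (φ.comp (S.cW y)) = S.mult (S.cons (φ.comp (S.cW y))).1 φ := by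
    unfold mult classInner
    congr 1
    refine Fintype.sum_equiv (Equiv.ofBijective _ ⟨hinj, Finite.injective_iff_surjective.mp hinj⟩) _ _ fun x => ?_
    show (S.cons (φ.comp (S.cW y))).1 x * _ = (S.cons (φ.comp (S.cW y))).1 ((S.cW y x : S.W) : G) * _
    rw [cW_val]
    congr 1
    have := isClassFunction_irr (S.cons (φ.comp (S.cW y))).2 x (y : G)⁻¹
    rw [inv_inv] at this
    exact this.symm
  have h2 := (S.cons_spec (φ.comp (S.cW y))).2.1
  rw [h1, h0] at h2
  exact zero_ne_one h2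

theorem tau_gram (φ χ : S.W →* ℂˣ) (hφ : φ ≠ 1) (hχ : χ ≠ 1) (h : ∀ y : S.N, φ ≠ χ.comp (S.cW y)) :
    classInner (indFun S.W (S.lin φ - S.lin χ)) (indFun S.W (S.lin φ - S.lin χ)) = 2 := by
  have hone : (S.lin φ - S.lin χ) 1 = 0 := by simp [lin]
  rw [frobenius_reciprocity S.W _ (indFun_isClassFunction _ _)]
  have e1 : (fun x : S.W => indFun S.W (S.lin φ - S.lin χ) (x : G)) =
      (Nat.card S.W : ℂ)⁻¹ • ∑ y : S.N, (S.lin (φ.comp (S.cW y)) - S.lin (χ.comp (S.cW y))) := by
    funext x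
    rw [Pi.smul_apply, Finset.sum_apply, smul_eq_mul]
    show (Nat.card S.W : ℂ)⁻¹ * ∑ g : G, extendByZero S.W (S.lin φ - S.lin χ) (g⁻¹ * x * g) = _
    congr 1
    rw [← Finset.sum_filter_add_sum_filter_not Finset.univ (· ∈ S.N),
      Finset.sum_eq_zero (s := Finset.univ.filter fun g => ¬ g ∈ S.N) (fun g hg => ?_), add_zero,
      Finset.sum_subtype (p := (· ∈ S.N)) _ (fun g => by simp)]
    · exact Finset.sum_congr rfl fun y _ => extendByZero_of_mem _ _ (S.conj_mem y.2 x.2)
    · have hgN := (Finset.mem_filter.mp hg).2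
      by_cases hx : (x : G) = 1
      · rw [hx, mul_one, inv_mul_cancel, extendByZero_of_mem _ _ (one_mem _)]
        exact hone
      · refine extendByZero_of_not_mem _ _ fun hmem => hgN ?_
        refine mem_normalizer_iff.mpr fun z => ?_
        have hx' : g⁻¹ * (x : G) * g ≠ 1 := fun e2 => hx (by
          rw [show (x : G) = g * (g⁻¹ * x * g) * g⁻¹ by group, e2]; group)
        show z ∈ S.W ↔ g * z * g⁻¹ ∈ S.W
        have hA : z ∈ S.W ↔ z * (g⁻¹ * (x : G) * g) = g⁻¹ * (x : G) * g * z := by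
          rw [← mem_centralizer_singleton_iff, S.cent _ hmem hx']
        have hB : g * z * g⁻¹ ∈ S.W ↔ g * z * g⁻¹ * x = x * (g * z * g⁻¹) := by
          rw [← mem_centralizer_singleton_iff, S.cent _ x.2 hx]
        rw [hA, hB]
        constructor
        · intro h2
          calc g * z * g⁻¹ * x = g * (z * (g⁻¹ * x * g)) * g⁻¹ := by group
            _ = g * (g⁻¹ * x * g * z) * g⁻¹ := by rw [h2]
            _ = _ := by group
        · intro h2
          calc z * (g⁻¹ * x * g) = g⁻¹ * (g * z * g⁻¹ * x) * g := by group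
            _ = g⁻¹ * ((x : G) * (g * z * g⁻¹)) * g := by rw [h2]
            _ = _ := by group
  rw [e1, classInner_smul_right, classInner_sum_right]
  have key : ∀ y : S.N, classInner (S.lin φ - S.lin χ) (S.lin (φ.comp (S.cW y)) - S.lin (χ.comp (S.cW y))) =
      (if (y : G) ∈ S.W then (1 : ℂ) else 0) * 2 := by
    intro y
    have h2 : χ ≠ φ.comp (S.cW y) := fun e2 => h y⁻¹ (by
      rw [e2]
      refine MonoidHom.ext fun x => congrArg φ (Subtype.ext ?_)
      simp only [cW_val]
      push_cast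
      group)
    rw [classInner_sub_left, classInner_sub_right, classInner_sub_right,
      classInner_irr_ne (S.lin_irr φ) (S.lin_irr (χ.comp (S.cW y))) (fun e2 => h y (S.lin_inj e2)),
      classInner_irr_ne (S.lin_irr χ) (S.lin_irr (φ.comp (S.cW y))) (fun e2 => h2 (S.lin_inj e2))]
    by_cases hy : (y : G) ∈ S.W
    · rw [if_pos hy, (S.comp_cW_eq_iff hφ y).mpr hy, (S.comp_cW_eq_iff hχ y).mpr hy,
        classInner_irr_self (S.lin_irr φ), classInner_irr_self (S.lin_irr χ)]
      norm_num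
    · rw [if_neg hy, classInner_irr_ne (S.lin_irr φ) (S.lin_irr (φ.comp (S.cW y)))
          (fun e2 => hy ((S.comp_cW_eq_iff hφ y).mp (S.lin_inj e2).symm)),
        classInner_irr_ne (S.lin_irr χ) (S.lin_irr (χ.comp (S.cW y)))
          (fun e2 => hy ((S.comp_cW_eq_iff hχ y).mp (S.lin_inj e2).symm))]
      norm_num
  rw [Finset.sum_congr rfl fun y _ => key y, ← Finset.sum_mul, map_inv₀, map_natCast,
    show (∑ y : S.N, (if (y : G) ∈ S.W then (1 : ℂ) else 0)) = Nat.card S.W from ?_, ← mul_assoc,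
    inv_mul_cancel₀ (Nat.cast_ne_zero.mpr Nat.card_pos.ne'), one_mul]
  rw [Finset.sum_boole, ← Nat.card_congr (Subgroup.subgroupOfEquivOfLe S.W_le_N).toEquiv,
    Nat.card_eq_fintype_card, Fintype.card_subtype]
  congr 2

theorem cons_eq_or_sub (φ χ : S.W →* ℂˣ) (hφ : φ ≠ 1) (hχ : χ ≠ 1) (h : S.cons φ ≠ S.cons χ) :
    indFun S.W (S.lin φ - S.lin χ) = (S.cons φ).1 - (S.cons χ).1 := by
  obtain ⟨A, B, hA, hB, hAB, e1⟩ := exists_eq_irr_sub_irr
    (isGenChar_indFun S.W (isGenChar_sub (isGenChar_of_char (isCharacter_of_irr (S.lin_irr φ)))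
      (isGenChar_of_char (isCharacter_of_irr (S.lin_irr χ)))))
    (S.tau_gram φ χ hφ hχ (fun y e2 => h (by rw [e2, S.cons_smul])))
    (by rw [indFun_apply_one]; simp [lin])
  have key : ∀ ψ : IrrCharacter G, S.mult ψ.1 φ - S.mult ψ.1 χ = classInner ψ.1 A - classInner ψ.1 B := by
    intro ψ
    rw [← classInner_sub_right, ← e1, frobenius_reciprocity' S.W _ (isClassFunction_irr ψ.2),
      classInner_sub_right]
    rfl
  obtain ⟨-, hφ1, hφ0⟩ := S.cons_spec φ
  obtain ⟨-, hχ1, hχ0⟩ := S.cons_spec χ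
  have h1 := key (S.cons φ)
  have h2 := key (S.cons χ)
  rw [hφ1, hχ0 _ (by rw [(S.cons_spec φ).1]; exact one_ne_zero) h] at h1
  rw [hχ1, hφ0 _ (by rw [(S.cons_spec χ).1]; exact one_ne_zero) (Ne.symm h)] at h2
  rw [classInner_irr (S.cons φ).2 hA, classInner_irr (S.cons φ).2 hB] at h1
  rw [classInner_irr (S.cons χ).2 hA, classInner_irr (S.cons χ).2 hB] at h2
  have hφA : (S.cons φ).1 = A := by
    by_contra hne
    rw [if_neg hne] at h1
    split at h1 <;> norm_num at h1
  have hχB : (S.cons χ).1 = B := by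
    by_contra hne
    rw [if_neg hne] at h2
    split at h2 <;> norm_num at h2
  rw [e1, hφA, hχB]

/-- The constituents are all equal, or separate the orbits of the normalizer. -/
theorem dichotomy : (∀ φ χ : S.Chs, S.cons φ.1 = S.cons χ.1) ∨
    ∀ φ χ : S.Chs, S.cons φ.1 = S.cons χ.1 → ∃ y : S.N, φ.1 = χ.1.comp (S.cW y) := by
  by_contra hcon
  push Not at hcon
  obtain ⟨⟨ν₁, ν₂, hν⟩, φ, φ', he, hno⟩ := hcon
  obtain ⟨ν, hne⟩ : ∃ ν : S.Chs, S.cons φ.1 ≠ S.cons ν.1 := by
    by_contra hall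
    push Not at hall
    exact hν ((hall ν₁).symm.trans (hall ν₂))
  have e1 := S.cons_eq_or_sub φ.1 ν.1 φ.2 ν.2 hne
  have e2 := S.cons_eq_or_sub φ'.1 ν.1 φ'.2 ν.2 (he ▸ hne)
  have h0 : indFun S.W (S.lin φ.1 - S.lin φ'.1) = 0 := by
    rw [show S.lin φ.1 - S.lin φ'.1 = (S.lin φ.1 - S.lin ν.1) - (S.lin φ'.1 - S.lin ν.1) by abel,
      indFun_sub, e1, e2, he, sub_self]
  have h2 := S.tau_gram φ.1 φ'.1 φ.2 φ'.2 hno
  rw [h0] at h2
  simp [classInner] at h2

theorem card_Chs : Nat.card S.Chs + 1 = Nat.card S.W := by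
  haveI : IsMulCommutative S.W := ⟨⟨fun a b => Subtype.ext (S.comm _ a.2 _ b.2)⟩⟩
  haveI : Finite (S.W →* ℂˣ) :=
    Finite.of_equiv _ (CommGroup.monoidHom_mulEquiv_of_hasEnoughRootsOfUnity S.W ℂ).some.symm.toEquiv
  rw [← CommGroup.card_monoidHom_of_hasEnoughRootsOfUnity S.W ℂ,
    ← Nat.card_congr (Equiv.sumCompl fun φ : S.W →* ℂˣ => φ = 1), Nat.card_sum, add_comm]
  simp [Nat.card_eq_fintype_card]

theorem perm_one : classInner S.perm (fun _ => 1) = 1 := by
  haveI := Fintype.ofFinite (G ⧸ S.M)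
  haveI : Subsingleton (MulAction.orbitRel.Quotient G (G ⧸ S.M)) := ⟨fun p q => by
    induction p using Quotient.inductionOn with
    | _ x => induction q using Quotient.inductionOn with
      | _ y => exact Quotient.sound (MulAction.orbitRel_apply.mpr (MulAction.exists_smul_eq G y x))⟩
  haveI : Nonempty (MulAction.orbitRel.Quotient G (G ⧸ S.M)) := ⟨⟦((1 : G) : G ⧸ S.M)⟧⟩
  have hb := MulAction.sum_card_fixedBy_eq_card_orbits_mul_card_group G (G ⧸ S.M)
  rw [Fintype.card_eq_one_iff_nonempty_unique.mpr ⟨uniqueOfSubsingleton (Classical.arbitrary _)⟩, one_mul] at hb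
  simp only [classInner, perm, SmallPartitionChars.fixChar, map_one, mul_one, Nat.card_eq_fintype_card]
  rw [← Nat.cast_sum, hb]
  exact inv_mul_cancel₀ (Nat.cast_ne_zero.mpr Fintype.card_ne_zero)

/-- The number of orbits on pairs. -/
noncomputable def rank : ℕ := Nat.card (MulAction.orbitRel.Quotient G ((G ⧸ S.M) × (G ⧸ S.M)))

theorem rank_cases : S.rank = 2 ∨ Nat.card S.W ≤ 1 + (S.rank - 1) * S.e := by
  haveI := Fintype.ofFinite (G ⧸ S.M)
  choose n hn using fun ψ : IrrCharacter G => classInner_char_nat S.perm_char (isCharacter_of_irr ψ.2)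
  choose d hd hdeq using fun ψ : IrrCharacter G => irr_degree_pos ψ.2
  have hrank : S.rank = ∑ ψ : IrrCharacter G, n ψ * n ψ := by
    have h1 : (S.rank : ℂ) = ((∑ ψ : IrrCharacter G, n ψ * n ψ : ℕ) : ℂ) := by
      unfold rank
      rw [← SmallPartitionChars.classInner_fixChar, ← perm, classInner_eq_sum_irr (isClassFunction_char S.perm_char),
        Nat.cast_sum]
      refine Finset.sum_congr rfl fun ψ _ => ?_
      rw [← classInner_comm S.perm ψ.1, hn, map_natCast, Nat.cast_mul]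
    exact_mod_cast h1
  set o : IrrCharacter G := ⟨fun _ => 1, isIrrCharacter_one⟩
  have ho : n o = 1 := by
    have := hn o
    rw [S.perm_one] at this
    exact_mod_cast this.symm
  have hne : ∀ φ : S.Chs, S.cons φ.1 ≠ o := by
    intro φ e1
    have h1 := (S.cons_spec φ.1).2.1
    rw [e1] at h1
    have h2 : S.mult o.1 φ.1 = 0 := by
      unfold mult
      rw [← classInner_comm, classInner, ← map_zero (starRingEnd ℂ)]
      congr 1
      simp only [o, map_one, mul_one, lin, S.lin_sum φ.1 φ.2, mul_zero]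
    exact zero_ne_one (h2.symm.trans h1)
  have hncons : ∀ φ : S.Chs, n (S.cons φ.1) = 1 := fun φ => by
    exact_mod_cast ((hn _).symm.trans (S.cons_spec φ.1).1)
  haveI : IsMulCommutative S.W := ⟨⟨fun a b => Subtype.ext (S.comm _ a.2 _ b.2)⟩⟩
  haveI : Finite (S.W →* ℂˣ) :=
    Finite.of_equiv _ (CommGroup.monoidHom_mulEquiv_of_hasEnoughRootsOfUnity S.W ℂ).some.symm.toEquiv
  haveI := Fintype.ofFinite S.Chs
  rcases S.dichotomy with hconst | hinj
  · by_cases hempty : IsEmpty S.Chs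
    · right
      have := S.card_Chs
      rw [Nat.card_of_isEmpty] at this
      omega
    left
    obtain ⟨φ₀⟩ := not_isEmpty_iff.mp hempty
    set f := S.cons φ₀.1
    have hf : Nat.card S.Chs ≤ d f := by
      choose k hk using fun θ : IrrCharacter S.W =>
        classInner_char_nat (isCharacter_restrict (isCharacter_of_irr f.2) S.W) (isCharacter_of_irr θ.2)
      have h1 : (d f : ℂ) = ((∑ θ : IrrCharacter S.W, k θ : ℕ) : ℂ) := by
        rw [← hdeq, Nat.cast_sum]
        have h2 := congrFun (eq_sum_irr (isClassFunction_char (isCharacter_restrict (isCharacter_of_irr f.2) S.W))) 1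
        simp only [OneMemClass.coe_one, Finset.sum_apply, Pi.smul_apply, smul_eq_mul] at h2
        rw [h2]
        refine Finset.sum_congr rfl fun θ _ => ?_
        rw [hk, degree_one_of_commutative (fun a b => Subtype.ext (S.comm _ a.2 _ b.2)) θ.2, mul_one]
      rw [Nat.cast_inj] at h1
      rw [h1, Nat.card_eq_fintype_card, ← Finset.card_univ, Finset.card_eq_sum_ones]
      let L : S.Chs ↪ IrrCharacter S.W :=
        ⟨fun φ => ⟨S.lin φ.1, S.lin_irr φ.1⟩, fun a b h => Subtype.ext (S.lin_inj (congrArg Subtype.val h))⟩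
      refine le_trans (le_of_eq ?_) (Finset.sum_le_sum_of_subset (Finset.subset_univ (Finset.univ.map L)))
      rw [Finset.sum_map]
      refine Finset.sum_congr rfl fun φ _ => ?_
      have h2 := (S.cons_spec φ.1).2.1
      rw [hconst φ φ₀] at h2
      exact_mod_cast h2.symm.trans (hk (L φ))
    have hdeg : ∑ ψ : IrrCharacter G, n ψ * d ψ = Nat.card S.W := by
      have h1 : ((∑ ψ : IrrCharacter G, n ψ * d ψ : ℕ) : ℂ) = Nat.card S.W := by
        have h2 := congrFun (eq_sum_irr (isClassFunction_char S.perm_char)) 1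
        simp only [Finset.sum_apply, Pi.smul_apply, smul_eq_mul] at h2
        rw [Nat.cast_sum, show S.perm 1 = _ from S.perm_W 1, if_pos rfl] at *
        rw [h2]
        exact Finset.sum_congr rfl fun ψ _ => by rw [Nat.cast_mul, hn, hdeq]
      exact_mod_cast h1
    have hd1 : d o = 1 := by
      have := hdeq o
      simp only [o] at this
      exact_mod_cast this.symm
    have hsplit : ∀ F : IrrCharacter G → ℕ,
        ∑ ψ, F ψ = F o + F f + ∑ ψ ∈ Finset.univ \ {o, f}, F ψ := fun F => by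
      rw [← Finset.sum_sdiff (Finset.subset_univ ({o, f} : Finset _)), Finset.sum_pair (hne φ₀).symm, add_comm]
    rw [hsplit, ho, hd1, hncons φ₀, one_mul, one_mul] at hdeg
    have := S.card_Chs
    have hz : ∑ ψ ∈ Finset.univ \ {o, f}, n ψ * d ψ = 0 := by omega
    rw [hrank, hsplit, ho, hncons φ₀]
    rw [Finset.sum_eq_zero fun ψ hψ => by
      rw [(mul_eq_zero.mp (Finset.sum_eq_zero_iff.mp hz ψ hψ)).resolve_right (hd ψ).ne', zero_mul]]
    all_goals norm_num
  · right
    letI := S.actC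
    have hcount := CAEven.card_eq_orbits_mul (K := S.N) (X := S.Chs) (n := S.e) S.index_stab
    haveI : Finite (MulAction.orbitRel.Quotient S.N S.Chs) := Quotient.finite _
    haveI := Fintype.ofFinite (MulAction.orbitRel.Quotient S.N S.Chs)
    let F : Option (MulAction.orbitRel.Quotient S.N S.Chs) ↪ IrrCharacter G :=
      ⟨fun q => q.elim o fun q => S.cons (Quotient.out q).1, by
        rintro (_ | p) (_ | q) h
        · rfl
        · exact absurd h.symm (hne _)
        · exact absurd h (hne _)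
        · obtain ⟨y, hy⟩ := hinj _ _ h
          rw [← Quotient.out_eq p, ← Quotient.out_eq q]
          exact congrArg some (Quotient.sound (MulAction.orbitRel_apply.mpr ⟨y, Subtype.ext hy.symm⟩))⟩
    have h1 : Nat.card (MulAction.orbitRel.Quotient S.N S.Chs) + 1 ≤ S.rank := by
      rw [hrank, Nat.card_eq_fintype_card, ← Fintype.card_option, ← Finset.card_univ, Finset.card_eq_sum_ones]
      refine le_trans ?_ (Finset.sum_le_sum_of_subset (Finset.subset_univ (Finset.univ.map F)))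
      rw [Finset.sum_map]
      refine Finset.sum_le_sum fun q _ => ?_
      rcases q with _ | q
      · show 1 ≤ n o * n o
        rw [ho]
      · show 1 ≤ n (S.cons (Quotient.out q).1) * n (S.cons (Quotient.out q).1)
        rw [hncons]
    rw [← S.card_Chs, hcount, add_comm]
    gcongr
    omega

/-- The main alternative. -/
theorem pair_cases : (∀ g g' : G, g ∉ S.M → g' ∉ S.M → ∃ h ∈ S.M, g'⁻¹ * h * g ∈ S.M) ∨
    ∀ g : G, g ∉ S.M →
      Nat.card (S.M ⊓ S.M.comap (MulAut.conj g⁻¹).toMonoidHom : Subgroup G) * S.e = Nat.card S.M := by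
  haveI := Fintype.ofFinite (G ⧸ S.M)
  let pt : G → (G ⧸ S.M) × (G ⧸ S.M) := fun g => (((1 : G) : G ⧸ S.M), (g : G ⧸ S.M))
  let Q := MulAction.orbitRel.Quotient G ((G ⧸ S.M) × (G ⧸ S.M))
  haveI : Finite Q := Quotient.finite _
  haveI := Fintype.ofFinite Q
  have hclass : ∀ g g' : G, (⟦pt g⟧ : Q) = ⟦pt g'⟧ → ∃ h ∈ S.M, g'⁻¹ * h * g ∈ S.M := by
    intro g g' h
    obtain ⟨x, hx⟩ := MulAction.orbitRel_apply.mp (Quotient.exact h.symm)
    have h1 := QuotientGroup.eq.mp (congrArg Prod.fst hx).symm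
    have h2 := QuotientGroup.eq.mp (congrArg Prod.snd hx).symm
    exact ⟨x, by simpa using h1, by simpa [mul_assoc] using h2⟩
  have hdiag : ∀ g : G, g ∉ S.M → (⟦pt g⟧ : Q) ≠ ⟦pt 1⟧ := by
    intro g hg h
    obtain ⟨x, hx, hx'⟩ := hclass g 1 h
    exact hg (by simpa [mul_assoc] using mul_mem (inv_mem hx) hx')
  rcases S.rank_cases with h2 | hle
  · left
    intro g g' hg hg'
    refine hclass g g' ?_
    by_contra hne
    have : 2 < Fintype.card Q := Fintype.two_lt_card_iff.mpr
      ⟨⟦pt g⟧, ⟦pt g'⟧, ⟦pt 1⟧, hne, hdiag g hg, hdiag g' hg'⟩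
    rw [← Nat.card_eq_fintype_card] at this
    exact absurd h2 (ne_of_gt this)
  · right
    intro g hg
    refine le_antisymm (S.card_stab_le hg) (not_lt.mp fun hlt => ?_)
    let sz : Q → ℕ := fun q => Nat.card (MulAction.orbitRel.Quotient.orbit q)
    have hsum : ∑ q : Q, sz q = Nat.card S.W * Nat.card S.W := by
      rw [← Nat.card_sigma, ← Nat.card_congr (MulAction.selfEquivSigmaOrbits' G _), Nat.card_prod, S.card_X]
    have hsz : ∀ x : G, Nat.card (S.M ⊓ S.M.comap (MulAut.conj x⁻¹).toMonoidHom : Subgroup G) * sz ⟦pt x⟧ =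
        Nat.card S.W * Nat.card S.M := by
      intro x
      rw [S.prod, ← Subgroup.card_mul_index (MulAction.stabilizer G (pt x)), MulAction.index_stabilizer,
        ← Nat.card_coe_set_eq]
      congr 1
      refine congrArg (fun H : Subgroup G => Nat.card H) (SetLike.ext fun y => ?_)
      rw [MulAction.mem_stabilizer_iff, Subgroup.mem_inf, Subgroup.mem_comap, Prod.ext_iff]
      simp only [pt, Prod.smul_mk, MulAction.Quotient.smul_coe, smul_eq_mul, QuotientGroup.eq,
        MulEquiv.coe_toMonoidHom, MulAut.conj_apply, inv_inv, mul_one, inv_one, mul_inv_rev]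
      rw [← inv_mem_iff (x := x⁻¹ * y⁻¹ * x)]
      simp [mul_assoc]
    have hrep : ∀ q : Q, ∃ x : G, q = ⟦pt x⟧ := by
      intro q
      induction q using Quotient.inductionOn with
      | _ p =>
        obtain ⟨p₁, p₂⟩ := p
        induction p₁ using QuotientGroup.induction_on with
        | H a => induction p₂ using QuotientGroup.induction_on with
          | H b => exact ⟨a⁻¹ * b, Quotient.sound (MulAction.orbitRel_apply.mpr ⟨a, by simp [pt]⟩)⟩
    have hlow : ∀ q : Q, q ≠ ⟦pt 1⟧ → Nat.card S.W * S.e ≤ sz q := by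
      intro q hq
      obtain ⟨x, rfl⟩ := hrep q
      have hx : x ∉ S.M := fun hx => hq (congrArg _ (Prod.ext rfl (QuotientGroup.eq.mpr (by simpa using hx))))
      have h1 := hsz x
      refine Nat.le_of_mul_le_mul_left ?_ (Nat.card_pos (α := S.M))
      calc Nat.card S.M * (Nat.card S.W * S.e) = _ * sz ⟦pt x⟧ * S.e := by rw [h1]; ring
        _ ≤ _ := by rw [mul_right_comm]; exact Nat.mul_le_mul_right _ (S.card_stab_le hx)
    have hone : sz ⟦pt 1⟧ = Nat.card S.W := by
      have h1 := hsz 1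
      simp only [inv_one, map_one] at h1
      rw [show Nat.card (S.M ⊓ S.M.comap (1 : MulAut G).toMonoidHom : Subgroup G) = Nat.card S.M from
        congrArg (fun H : Subgroup G => Nat.card H) (SetLike.ext fun y => by simp), mul_comm (Nat.card S.W)] at h1
      exact Nat.eq_of_mul_eq_mul_left Nat.card_pos h1
    have hhigh : Nat.card S.W * S.e < sz ⟦pt g⟧ := by
      refine Nat.lt_of_mul_lt_mul_left (a := Nat.card S.M) ?_
      calc Nat.card S.M * (Nat.card S.W * S.e) = _ * sz ⟦pt g⟧ * S.e := by rw [hsz g]; ring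
        _ < _ := by
          rw [mul_right_comm]
          refine Nat.mul_lt_mul_of_pos_right hlt ?_
          exact Nat.pos_of_ne_zero fun h0 => by
            have := hsz g
            rw [h0, mul_zero] at this
            exact (Nat.mul_pos (Nat.card_pos (α := S.W)) (Nat.card_pos (α := S.M))).ne this
    rw [← Finset.sum_erase_add _ _ (Finset.mem_univ (⟦pt 1⟧ : Q)), hone] at hsum
    have hlt' : ((Finset.univ : Finset Q).erase ⟦pt 1⟧).card * (Nat.card S.W * S.e) <
        ∑ q ∈ (Finset.univ : Finset Q).erase ⟦pt 1⟧, sz q := by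
      rw [← smul_eq_mul, ← Finset.sum_const]
      exact Finset.sum_lt_sum (fun q hq => hlow q (Finset.ne_of_mem_erase hq))
        ⟨_, Finset.mem_erase.mpr ⟨hdiag g hg, Finset.mem_univ _⟩, hhigh⟩
    rw [Finset.card_erase_of_mem (Finset.mem_univ _), Finset.card_univ, ← Nat.card_eq_fintype_card] at hlt'
    have := Nat.mul_le_mul_left (Nat.card S.W) hle
    simp only [rank] at this
    nlinarith

end Reg

end CfsgLib.ConjRankThree
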