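import Cfsg.Agent.Lib.ConjRankThree.EvenC

set_option autoImplicit false

/-!
Three centralizer orders, none properly dividing another: all centralizers are abelian.
-/

namespace CfsgLib.ConjRankThree

open Subgroup

universe u

variable {G : Type u} [Group G] [Finite G]

/-- No centralizer order properly divides another. -/
def Flat (G : Type u) [Group G] : Prop := ∀ x y : G, x ≠ 1 → y ≠ 1 → cc x ∣ cc y → cc x = cc y

theorem Flat.eq (h : Flat G) {x y : G} (hx : x ≠ 1) (hy : y ≠ 1)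
    (hle : centralizer ({x} : Set G) ≤ centralizer ({y} : Set G)) :
    centralizer ({x} : Set G) = centralizer ({y} : Set G) :=
  eq_of_le_of_card_ge hle (h x y hx hy (cc_le_of_le hle)).ge

/-- The centralizer is abelian. -/
def CAb (x : G) : Prop := ∀ u ∈ centralizer ({x} : Set G), ∀ v ∈ centralizer ({x} : Set G), u * v = v * u

theorem Flat.pgroup (h : Flat G) {x : G} {p : ℕ} [Fact p.Prime] (hx : x ≠ 1) (hxp : ∃ k, orderOf x = p ^ k)
    (hna : ¬ CAb x) : IsPGroup p (centralizer ({x} : Set G)) := by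
  have hp : p.Prime := Fact.out
  by_contra hnp
  set C := centralizer ({x} : Set G)
  obtain ⟨q, hq, hqd, hqp⟩ : ∃ q, q.Prime ∧ q ∣ Nat.card C ∧ q ≠ p := by
    by_contra hcon
    push Not at hcon
    exact hnp (IsPGroup.of_card (Nat.eq_prime_pow_of_unique_prime_dvd Nat.card_pos.ne'
      (fun {d} hd hdc => hcon d hd hdc)))
  haveI := Fact.mk hq
  have key : ∀ {u v : G}, u ∈ C → u ≠ 1 → v ≠ 1 → Commute u v → (orderOf u).Coprime (orderOf v) →
      centralizer ({u} : Set G) = centralizer ({v} : Set G) := by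
    intro u v _ hu hv huv hco
    have hmul := mul_cent huv hco
    have hne : u * v ≠ 1 := fun e => hu (by
      have := hco
      rw [(inv_eq_of_mul_eq_one_right e).symm, orderOf_inv, Nat.coprime_self] at this
      exact orderOf_eq_one_iff.mp this)
    rw [← h.eq hne hu (hmul.le.trans inf_le_left), h.eq hne hv (hmul.le.trans inf_le_right)]
  -- elements of prime power order are central
  have hcentral : ∀ (r : ℕ) [Fact r.Prime] (u : G), u ∈ C → (∃ k, orderOf u = r ^ k) → u ≠ 1 →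
      centralizer ({u} : Set G) = C := by
    intro r _ u hu hur hu1
    by_cases hrp : r = p
    · subst hrp
      obtain ⟨y, hy⟩ := exists_prime_orderOf_dvd_card' (G := C) q hqd
      rw [← Subgroup.orderOf_coe] at hy
      have hy1 : (y : G) ≠ 1 := fun e => by rw [e, orderOf_one] at hy; exact hq.one_lt.ne hy
      have hyq : ∃ k, orderOf (y : G) = q ^ k := ⟨1, by rw [hy, pow_one]⟩
      have hyC : centralizer ({(y : G)} : Set G) = C :=
        key y.2 hy1 hx (mem_cent.mp y.2) (coprime_of_not_eq hq hp hqp hyq hxp)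
      rw [key hu hu1 hy1 (mem_cent.mp (hyC.symm ▸ hu)) (coprime_of_not_eq hp hq (Ne.symm hqp) hur hyq), hyC]
    · exact key hu hu1 hx (mem_cent.mp hu) (coprime_of_not_eq Fact.out hp hrp hur hxp)
  refine hna fun u hu v hv => ?_
  have htop : center C = ⊤ := by
    refine eq_top_of_card_eq _ (Nat.dvd_antisymm (card_subgroup_dvd_card _) ?_)
    rw [Nat.dvd_iff_prime_pow_dvd_dvd]
    intro r k hr hk
    haveI := Fact.mk hr
    obtain ⟨R⟩ : Nonempty (Sylow r C) := inferInstance
    have hle : (R : Subgroup C) ≤ center C := by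
      intro z hz
      obtain ⟨i, hi⟩ := R.2 ⟨z, hz⟩
      have hzr : ∃ j, orderOf (z : G) = r ^ j := by
        obtain ⟨j, -, hj⟩ := (Nat.dvd_prime_pow hr).mp (show orderOf (z : G) ∣ r ^ i from orderOf_dvd_of_pow_eq_one
          (congrArg Subtype.val (congrArg Subtype.val hi)))
        exact ⟨j, hj⟩
      refine mem_center_iff.mpr fun g => Subtype.ext ?_
      rcases eq_or_ne (z : G) 1 with e | e
      · simp [e]
      · exact mem_cent.mp ((hcentral r z z.2 hzr e).symm ▸ g.2)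
    refine (Nat.pow_dvd_pow r ((hr.pow_dvd_iff_le_factorization Nat.card_pos.ne').mp hk)).trans ?_
    rw [← R.card_eq_multiplicity]
    exact card_dvd_of_le hle
  exact congrArg Subtype.val (mem_center_iff.mp (htop ▸ mem_top (⟨v, hv⟩ : C)) ⟨u, hu⟩)


theorem Flat.eq_sylow (h : Flat G) {x : G} {p : ℕ} [Fact p.Prime] (hx : x ≠ 1) (hxp : ∃ k, orderOf x = p ^ k)
    (hna : ¬ CAb x) : ∃ P : Sylow p G, (P : Subgroup G) = centralizer ({x} : Set G) := by
  obtain ⟨P, hP⟩ := (h.pgroup hx hxp hna).exists_le_sylow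
  obtain ⟨k, hk⟩ := hxp
  have hd : p ∣ Nat.card G := by
    refine Dvd.dvd.trans ?_ (orderOf_dvd_natCard x)
    rw [hk]
    refine dvd_pow_self p fun e => hx (orderOf_eq_one_iff.mp ?_)
    rw [hk, e, pow_zero]
  obtain ⟨z, hz1, -, -, hPz⟩ := exists_central_sylow hd P
  refine ⟨P, le_antisymm ?_ hP⟩
  rw [h.eq hx hz1 (hP.trans hPz)]
  exact hPz

theorem Flat.exists_sylow_of_nab (h : Flat G) {x : G} (hx : x ≠ 1) (hna : ¬ CAb x) :
    ∃ p : ℕ, ∃ _ : Fact p.Prime, ∃ P : Sylow p G, (P : Subgroup G) = centralizer ({x} : Set G) ∧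
      ¬ (∀ u ∈ (P : Subgroup G), ∀ v ∈ (P : Subgroup G), u * v = v * u) := by
  obtain ⟨n, p, hp, hn, hk⟩ := exists_primary hx
  haveI := Fact.mk hp
  have he : centralizer ({x} : Set G) = centralizer ({x ^ n} : Set G) := h.eq hx hn (cent_le_pow x n)
  obtain ⟨P, hP⟩ := h.eq_sylow hn hk (fun e => hna (by unfold CAb; rw [he]; exact e))
  exact ⟨p, this, P, hP.trans he.symm, fun e => hna (by unfold CAb; rw [he, ← hP]; exact e)⟩

theorem sylow_nab {p : ℕ} [Fact p.Prime] (P Q : Sylow p G)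
    (hP : ¬ ∀ u ∈ (P : Subgroup G), ∀ v ∈ (P : Subgroup G), u * v = v * u) :
    ¬ ∀ u ∈ (Q : Subgroup G), ∀ v ∈ (Q : Subgroup G), u * v = v * u := fun hQ => hP fun u hu v hv => by
  obtain ⟨g, hg⟩ := MulAction.exists_smul_eq G P Q
  have hm : ∀ y ∈ (P : Subgroup G), g * y * g⁻¹ ∈ (Q : Subgroup G) := fun y hy => by
    rw [← hg, Sylow.coe_subgroup_smul]
    exact Subgroup.mem_map.mpr ⟨y, hy, rfl⟩
  have e := hQ _ (hm u hu) _ (hm v hv)
  rw [show g * u * g⁻¹ * (g * v * g⁻¹) = g * (u * v) * g⁻¹ by group,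
    show g * v * g⁻¹ * (g * u * g⁻¹) = g * (v * u) * g⁻¹ by group] at e
  exact mul_left_cancel (mul_right_cancel e)

/-- The centralizers of the p-elements when a Sylow p-subgroup is non-abelian. -/
theorem Flat.cent_nab (h : Flat G) {p : ℕ} [Fact p.Prime] {P : Sylow p G}
    (hP : ¬ ∀ u ∈ (P : Subgroup G), ∀ v ∈ (P : Subgroup G), u * v = v * u)
    {x : G} (hx : x ≠ 1) (hxp : ∃ k, orderOf x = p ^ k) :
    ∃ Q : Sylow p G, (Q : Subgroup G) = centralizer ({x} : Set G) := by
  obtain ⟨Q, hxQ⟩ := exists_sylow_of_mem hxp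
  obtain ⟨k, hk⟩ := hxp
  have hd : p ∣ Nat.card G := by
    refine Dvd.dvd.trans ?_ (orderOf_dvd_natCard x)
    rw [hk]
    refine dvd_pow_self p fun e => hx (orderOf_eq_one_iff.mp ?_)
    rw [hk, e, pow_zero]
  obtain ⟨z, hz1, -, -, hQz⟩ := exists_central_sylow hd Q
  refine h.eq_sylow hx ⟨k, hk⟩ fun hab => sylow_nab P Q hP ?_
  have hle : centralizer ({x} : Set G) ≤ centralizer ({z} : Set G) := fun u hu =>
    mem_cent.mpr (hab u hu z (mem_cent_symm (hQz hxQ)))
  have e := h.eq hx hz1 hle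
  exact fun u hu v hv => hab u (e.symm ▸ hQz hu) v (e.symm ▸ hQz hv)

theorem Flat.two_cent_ab (h : Flat G) {x : G} (hx : x ≠ 1) (hx2 : ∃ k, orderOf x = 2 ^ k) : CAb x := by
  haveI : Fact (Nat.Prime 2) := ⟨Nat.prime_two⟩
  by_contra hna
  obtain ⟨P, hP⟩ := h.eq_sylow hx hx2 hna
  have hPn : ¬ ∀ u ∈ (P : Subgroup G), ∀ v ∈ (P : Subgroup G), u * v = v * u := fun e => hna (by
    unfold CAb; rw [← hP]; exact e)
  have ord : ∀ (Q : Sylow 2 G), ∀ u ∈ (Q : Subgroup G), ∃ k, orderOf u = 2 ^ k := by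
    intro Q u hu
    obtain ⟨i, hi⟩ := Q.2 ⟨u, hu⟩
    obtain ⟨j, -, hj⟩ := (Nat.dvd_prime_pow Nat.prime_two).mp
      (show orderOf u ∣ 2 ^ i from orderOf_dvd_of_pow_eq_one (congrArg Subtype.val hi))
    exact ⟨j, hj⟩
  -- the centre of a Sylow 2-subgroup has exponent two
  have hZ : ∀ (Q : Sylow 2 G) (z : G), z ∈ (Q : Subgroup G) → (Q : Subgroup G) ≤ centralizer ({z} : Set G) → z * z = 1 := by
    intro Q z hzQ hzc
    have hQn := sylow_nab P Q hPn
    haveI : Nontrivial ((Q : Subgroup G) ⧸ center (Q : Subgroup G)) := by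
      rw [← Finite.one_lt_card_iff_nontrivial, ← index_eq_card]
      refine Nat.lt_of_le_of_ne (Nat.pos_of_ne_zero index_ne_zero_of_finite) fun e => hQn ?_
      intro u hu v hv
      exact congrArg Subtype.val (mem_center_iff.mp
        ((index_eq_one.mp e.symm) ▸ mem_top (⟨v, hv⟩ : (Q : Subgroup G))) ⟨u, hu⟩)
    obtain ⟨n, hn, hcard⟩ := (Q.2.to_quotient (center (Q : Subgroup G))).nontrivial_iff_card.mp inferInstance
    obtain ⟨yq, hyq⟩ := exists_prime_orderOf_dvd_card' (G := (Q : Subgroup G) ⧸ center (Q : Subgroup G)) 2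
      (hcard ▸ dvd_pow_self 2 (by omega))
    induction yq using QuotientGroup.induction_on with
    | H y =>
      have hyn : y ∉ center (Q : Subgroup G) := fun e => by
        rw [(QuotientGroup.eq_one_iff y).mpr e, orderOf_one] at hyq
        omega
      have hy2 : y * y ∈ center (Q : Subgroup G) := by
        rw [← QuotientGroup.eq_one_iff, QuotientGroup.mk_mul, ← pow_two]
        exact orderOf_dvd_iff_pow_eq_one.mp hyq.dvd
      have sq_one : ∀ y : (Q : Subgroup G), y ∉ center (Q : Subgroup G) → y * y ∈ center (Q : Subgroup G) → (y : G) * y = 1 := by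
        intro y hyn hy2
        by_contra hne
        have hy1 : (y : G) ≠ 1 := fun e => hne (by rw [e, one_mul])
        have e := h.eq hy1 hne (by
          have := cent_le_pow (y : G) 2
          rwa [pow_two] at this)
        refine hyn (mem_center_iff.mpr fun g => Subtype.ext ?_)
        exact mem_cent.mp (e.symm ▸ mem_cent.mpr (congrArg Subtype.val (mem_center_iff.mp hy2 g)))
      have hzZ : (⟨z, hzQ⟩ : (Q : Subgroup G)) ∈ center (Q : Subgroup G) :=
        mem_center_iff.mpr fun g => Subtype.ext (mem_cent.mp (hzc g.2))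
      have h1 := sq_one y hyn hy2
      have hcomm : y * ⟨z, hzQ⟩ = ⟨z, hzQ⟩ * y := mem_center_iff.mp hzZ y
      have hsq : (y * ⟨z, hzQ⟩) * (y * ⟨z, hzQ⟩) = ⟨z, hzQ⟩ * ⟨z, hzQ⟩ := by
        calc (y * ⟨z, hzQ⟩) * (y * ⟨z, hzQ⟩) = y * (⟨z, hzQ⟩ * y) * ⟨z, hzQ⟩ := by group
          _ = (y * y) * (⟨z, hzQ⟩ * ⟨z, hzQ⟩) := by rw [← hcomm]; group
          _ = _ := by rw [show y * y = 1 from Subtype.ext h1, one_mul]
      have h2 := sq_one (y * ⟨z, hzQ⟩) (fun e => hyn ((mul_mem_cancel_right hzZ).mp e))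
        (hsq ▸ mul_mem hzZ hzZ)
      exact (congrArg Subtype.val hsq).symm.trans h2
  refine hPn fun u hu v hv => ?_
  have sq : ∀ y ∈ (P : Subgroup G), y * y = 1 := by
    intro y hy
    rcases eq_or_ne y 1 with rfl | hy1
    · exact one_mul 1
    obtain ⟨Q, hQ⟩ := h.cent_nab hPn hy1 (ord P y hy)
    exact hZ Q y (hQ.symm ▸ self_mem y) hQ.le
  have huv := sq _ (mul_mem hu hv)
  calc u * v = u * (u * v * (u * v)) * v := by rw [huv, mul_one]
    _ = (u * u) * v * u * (v * v) := by group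
    _ = _ := by rw [sq u hu, sq v hv, one_mul, mul_one]

end CfsgLib.ConjRankThree
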