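import Cfsg.Agent.Lib.ConjRankThree.EvenC
import Cfsg.Agent.Lib.ConjRankThree.Exceptional
import Cfsg.Agent.S0581

set_option autoImplicit false

/-!
The centralizers of the third order and the involutions inverting them.
-/

namespace CfsgLib.ConjRankThree

open Subgroup
open scoped Pointwise

universe u

variable {G : Type u} [Group G] [Finite G] [Mono G] {a b c : ℕ}

/-- An element whose centralizer has full 2-part is not inverted. -/
theorem not_real {x g : G} (hfull : 2 ^ (Nat.card G).factorization 2 ∣ cc x) (hx : x * x ≠ 1) :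
    g * x * g⁻¹ ≠ x⁻¹ := by
  intro hg
  let H : Subgroup G :=
    { carrier := {h | h * x * h⁻¹ = x ∨ h * x * h⁻¹ = x⁻¹}
      one_mem' := Or.inl (by group)
      mul_mem' := by
        intro p q hp hq
        have e : p * q * x * (p * q)⁻¹ = p * (q * x * q⁻¹) * p⁻¹ := by group
        have hinv : p * x⁻¹ * p⁻¹ = (p * x * p⁻¹)⁻¹ := by group
        rcases hp with hp | hp <;> rcases hq with hq | hq <;>
          simp only [Set.mem_setOf_eq, e, hq, hinv, hp, inv_inv, true_or, or_true]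
      inv_mem' := by
        intro p hp
        rcases hp with hp | hp
        · left
          calc p⁻¹ * x * p⁻¹⁻¹ = p⁻¹ * (p * x * p⁻¹) * p := by rw [hp]; group
            _ = x := by group
        · right
          calc p⁻¹ * x * p⁻¹⁻¹ = p⁻¹ * (p * x * p⁻¹)⁻¹ * p := by rw [hp]; group
            _ = x⁻¹ := by group }
  have hmem : ∀ h, h ∈ H ↔ (h * x * h⁻¹ = x ∨ h * x * h⁻¹ = x⁻¹) := fun h => Iff.rfl
  have hle : centralizer ({x} : Set G) ≤ H := fun h hh =>
    (hmem h).mpr (Or.inl (mul_inv_eq_iff_eq_mul.mpr (mem_cent.mp hh)))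
  have hidx : ((centralizer ({x} : Set G)).subgroupOf H).index = 2 := by
    rw [Subgroup.index_eq_two_iff]
    refine ⟨⟨g, Or.inr hg⟩, fun p => ?_⟩
    have hc : ∀ q : G, q ∈ centralizer ({x} : Set G) ↔ q * x * q⁻¹ = x := fun q => by
      rw [mem_cent, mul_inv_eq_iff_eq_mul]
    have hne : x⁻¹ ≠ x := fun e => hx (inv_eq_iff_mul_eq_one.mp e)
    have e : (p : G) * g * x * ((p : G) * g)⁻¹ = ((p : G) * x * (p : G)⁻¹)⁻¹ := by
      calc (p : G) * g * x * ((p : G) * g)⁻¹ = p * (g * x * g⁻¹) * (p : G)⁻¹ := by group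
        _ = _ := by rw [hg]; group
    simp only [mem_subgroupOf, Subgroup.coe_mul, hc, e]
    rcases (hmem p).mp p.2 with h | h <;> rw [h]
    · exact Or.inr ⟨rfl, hne⟩
    · exact Or.inl ⟨inv_inv x, hne⟩
  have h2 : cc x * 2 ∣ Nat.card G := by
    rw [← hidx, cc, ← Nat.card_congr (Subgroup.subgroupOfEquivOfLe hle).toEquiv, Subgroup.card_mul_index]
    exact card_subgroup_dvd_card H
  have h3 := (mul_dvd_mul_right hfull 2).trans h2
  rw [← pow_succ] at h3
  exact absurd ((Nat.prime_two.pow_dvd_iff_le_factorization Nat.card_pos.ne').mp h3) (by omega)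

namespace Chain

theorem not_mem_of_c (h : Chain G a b c) {t x : G} (ht : t ≠ 1) (hx : x ≠ 1) (hxc : cc x = c) (htc : cc t ≠ c) :
    x ∉ centralizer ({t} : Set G) := fun hxt => htc (h.cc_c_comm hx ht hxc (mem_cent_symm hxt))

theorem cc_invol_ne_c (h : Chain G a b c) {t : G} (ht : orderOf t = 2) : cc t ≠ c := fun e =>
  h.c_odd (e ▸ ht ▸ orderOf_dvd_cc (self_mem t))

/-- The regular configuration. -/
noncomputable def reg (h : Chain G a b c) {w : G} (hw : w ≠ 1) (hwc : cc w = c) {z : G} (hz : z ≠ 1) (hzb : cc z = b) :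
    Reg G where
  W := centralizer ({w} : Set G)
  M := centralizer ({z} : Set G)
  comm := fun _ hx _ hy => h.comm_c hw hwc hx hy
  cent := fun _ hx hx1 => h.cent_c hw hwc hx hx1
  prod := by
    show cc w * cc z = _
    rw [hwc, hzb, mul_comm, h.mul_eq]
  ti := by
    intro g x hx hm
    by_contra hx1
    have hxc : cc x = c := h.cc_c_comm hw hx1 hwc hx
    refine h.not_mem_of_c (x := g⁻¹ * x * g) hz (fun e => hx1 ?_) ?_ (by rw [hzb]; exact h.hbc) hm
    · rw [show x = g * (g⁻¹ * x * g) * g⁻¹ by group, e]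
      group
    · rw [show g⁻¹ * x * g = g⁻¹ * x * g⁻¹⁻¹ by group, cc_conj, hxc]

variable {w : G}

theorem mem_normalizer_of_conj (h : Chain G a b c) (hw : w ≠ 1) (hwc : cc w = c) {g x : G}
    (hx : x ∈ centralizer ({w} : Set G)) (hx1 : x ≠ 1) (hg : g * x * g⁻¹ ∈ centralizer ({w} : Set G)) :
    g ∈ normalizer (centralizer ({w} : Set G) : Set G) := by
  have h1 : g * x * g⁻¹ ≠ 1 := fun e => hx1 (conj_eq_one_iff.mp e)
  refine mem_normalizer_iff.mpr fun z => ?_
  show z ∈ centralizer ({w} : Set G) ↔ g * z * g⁻¹ ∈ centralizer ({w} : Set G)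
  have e1 : ∀ y, y ∈ centralizer ({w} : Set G) ↔ y * (g * x * g⁻¹) = g * x * g⁻¹ * y := fun y => by
    rw [← mem_cent, h.cent_c hw hwc hg h1]
  have e2 : ∀ y, y ∈ centralizer ({w} : Set G) ↔ y * x = x * y := fun y => by
    rw [← mem_cent, h.cent_c hw hwc hx hx1]
  rw [e2 z, e1]
  rw [show g * z * g⁻¹ * (g * x * g⁻¹) = g * (z * x) * g⁻¹ by group,
    show g * x * g⁻¹ * (g * z * g⁻¹) = g * (x * z) * g⁻¹ by group]
  exact ⟨fun e => by rw [e], fun e => mul_left_cancel (mul_right_cancel e)⟩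

theorem normalizer_c_ne_top (h : Chain G a b c) (hw : w ≠ 1) (hwc : cc w = c) :
    normalizer (centralizer ({w} : Set G) : Set G) ≠ ⊤ := fun e =>
  abelian_normal_absurd (hN := normalizer_eq_top_iff.mp e) (fun _ hx _ hy => h.comm_c hw hwc hx hy)
    (fun e' => hw (mem_bot.mp (e' ▸ self_mem w)))

theorem odd_mem (h : Chain G a b c) (hwc : cc w = c) {v : G} (hv : v ∈ centralizer ({w} : Set G)) :
    Odd (orderOf v) :=
  (Nat.odd_iff.mpr (by have := h.c_odd; omega : c % 2 = 1)).of_dvd_nat (hwc ▸ orderOf_dvd_cc hv)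

theorem inverts (h : Chain G a b c) (hw : w ≠ 1) (hwc : cc w = c) {u : G} (hu : orderOf u = 2)
    (hun : u ∈ normalizer (centralizer ({w} : Set G) : Set G)) {v : G} (hv : v ∈ centralizer ({w} : Set G)) :
    u * v * u⁻¹ = v⁻¹ := by
  have huv : u * v * u⁻¹ ∈ centralizer ({w} : Set G) := (mem_normalizer_iff.mp hun v).mp hv
  by_contra hne
  have hp1 : v * (u * v * u⁻¹) ≠ 1 := fun e => hne (eq_inv_of_mul_eq_one_right e)
  have hcomm : u * (v * (u * v * u⁻¹)) = v * (u * v * u⁻¹) * u := by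
    rw [h.comm_c hw hwc hv huv]
    have hu2 := Involutions.mul_self_eq_one_of_orderOf hu
    calc u * (u * v * u⁻¹ * v) = (u * u) * v * u⁻¹ * v := by group
      _ = v * u * v := by rw [hu2, one_mul, Involutions.inv_eq_self_of_orderOf hu]
      _ = v * (u * v * u⁻¹) * u := by group
    rw [h.comm_c hw hwc hv huv]
  have := h.cent_c hw hwc (mul_mem hv huv) hp1 ▸ mem_cent.mpr hcomm
  exact h.c_odd (hwc ▸ hu ▸ orderOf_dvd_cc this)

theorem normalizes (h : Chain G a b c) (hw : w ≠ 1) (hwc : cc w = c) {u x : G} (hx : x ∈ centralizer ({w} : Set G))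
    (hx1 : x ≠ 1) (hux : u * x * u⁻¹ = x⁻¹) : u ∈ normalizer (centralizer ({w} : Set G) : Set G) :=
  h.mem_normalizer_of_conj hw hwc hx hx1 (hux ▸ inv_mem hx)

theorem conj_eq_sq_mul (h : Chain G a b c) (hw : w ≠ 1) (hwc : cc w = c) {u : G} (hu : orderOf u = 2)
    (hun : u ∈ normalizer (centralizer ({w} : Set G) : Set G)) {v : G} (hv : v ∈ centralizer ({w} : Set G)) :
    v * u * v⁻¹ = v * v * u := by
  rw [← h.inverts hw hwc hu hun hv]
  calc v * u * (u * v * u⁻¹) = v * (u * u) * v * u⁻¹ := by group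
    _ = _ := by rw [Involutions.mul_self_eq_one_of_orderOf hu, mul_one, Involutions.inv_eq_self_of_orderOf hu]

theorem conj_inverter (h : Chain G a b c) (hw : w ≠ 1) (hwc : cc w = c) {u u' : G} (hu : orderOf u = 2)
    (hun : u ∈ normalizer (centralizer ({w} : Set G) : Set G)) (hu' : orderOf u' = 2)
    (hun' : u' ∈ normalizer (centralizer ({w} : Set G) : Set G)) :
    u' * u ∈ centralizer ({w} : Set G) ∧ ∃ v ∈ centralizer ({w} : Set G), u' = v * u * v⁻¹ := by
  have hp : u' * u ∈ centralizer ({w} : Set G) := by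
    refine mem_cent.mpr ?_
    have e : u' * u * w * (u' * u)⁻¹ = w := by
      rw [show u' * u * w * (u' * u)⁻¹ = u' * (u * w * u⁻¹) * u'⁻¹ by group,
        h.inverts hw hwc hu hun (self_mem w), h.inverts hw hwc hu' hun' (inv_mem (self_mem w)), inv_inv]
    exact mul_inv_eq_iff_eq_mul.mp e
  obtain ⟨n, hn⟩ : ∃ n : ℕ, orderOf (u' * u) = 2 * n + 1 := h.odd_mem hwc hp
  refine ⟨hp, (u' * u) ^ (n + 1), pow_mem hp _, ?_⟩
  rw [h.conj_eq_sq_mul hw hwc hu hun (pow_mem hp _), ← pow_add, show n + 1 + (n + 1) = 2 * n + 1 + 1 by ring,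
    ← hn, pow_succ, pow_orderOf_eq_one, one_mul, mul_assoc, Involutions.mul_self_eq_one_of_orderOf hu, mul_one]

theorem invol_inj (h : Chain G a b c) (hw : w ≠ 1) (hwc : cc w = c) {u : G} (hu : orderOf u = 2) {v v' : G}
    (hv : v ∈ centralizer ({w} : Set G)) (hv' : v' ∈ centralizer ({w} : Set G))
    (e : v * u * v⁻¹ = v' * u * v'⁻¹) : v = v' := by
  by_contra hne
  have hd : v'⁻¹ * v ≠ 1 := fun e1 => hne (inv_mul_eq_one.mp e1).symm
  have hu1 : u ≠ 1 := fun e1 => by rw [e1, orderOf_one] at hu; omega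
  refine h.not_mem_of_c hu1 hd (h.cc_c_comm hw hd hwc (mul_mem (inv_mem hv') hv)) (h.cc_invol_ne_c hu) ?_
  refine mem_cent.mpr ?_
  calc v'⁻¹ * v * u = v'⁻¹ * (v * u * v⁻¹) * v := by group
    _ = v'⁻¹ * (v' * u * v'⁻¹) * v := by rw [e]
    _ = _ := by group

theorem exists_conj_c (h : Chain G a b c) (hw : w ≠ 1) (hwc : cc w = c) {x : G} (hx : x ≠ 1) (hxc : cc x = c) :
    ∃ g : G, ∀ y, y ∈ centralizer ({x} : Set G) ↔ g⁻¹ * y * g ∈ centralizer ({w} : Set G) := by
  set W := centralizer ({w} : Set G)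
  have hcard : Nat.card W = c := hwc
  have hidx : W.index = b := by
    refine Nat.eq_of_mul_eq_mul_left h.pos.2 ?_
    rw [← hcard, Subgroup.card_mul_index, ← h.mul_eq, hcard, mul_comm]
  haveI : Group.IsNilpotent W := by
    letI : CommGroup W :=
      { (inferInstance : Group W) with mul_comm := fun p q => Subtype.ext (h.comm_c hw hwc p.2 q.2) }
    infer_instance
  obtain ⟨g, hg⟩ := Cfsg.Agent.S0581.result W (centralizer ({x} : Set G)) inferInstance
    (by rw [hcard, hidx]; exact h.coprime.symm) (fun p _ hd => by rw [hcard]; exact hxc ▸ hd)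
  have heq : centralizer ({x} : Set G) = MulAut.conj g • W := by
    refine eq_of_le_of_card_ge hg (le_of_eq ?_)
    rw [← Nat.card_congr (equivSMul _ W).toEquiv, hcard]
    exact hxc.symm
  refine ⟨g, fun y => ?_⟩
  rw [heq, mem_pointwise_smul_iff_inv_smul_mem, ← map_inv, MulAut.smul_def, MulAut.conj_apply, inv_inv]

/-- No involution with the largest centralizer inverts a centralizer of the third order. -/
theorem no_inverter_b (h : Chain G a b c) (hw : w ≠ 1) (hwc : cc w = c) {t : G} (ht : orderOf t = 2) (htb : cc t = b)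
    (htn : t ∈ normalizer (centralizer ({w} : Set G) : Set G)) : False := by
  have ht1 : t ≠ 1 := fun e => by rw [e, orderOf_one] at ht; omega
  set W := centralizer ({w} : Set G)
  have hall : ∀ g : G, g * t * g⁻¹ ∈ normalizer (W : Set G) := by
    intro g
    obtain ⟨⟨v, hv⟩, he⟩ := ((h.reg hw hwc ht1 htb).bij 1).2 (g : G ⧸ centralizer ({t} : Set G))
    have hm : v⁻¹ * g ∈ centralizer ({t} : Set G) := by
      have := QuotientGroup.eq.mp he
      simp only [mul_one] at this
      exact this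
    have e : g * t * g⁻¹ = v * t * v⁻¹ := by
      rw [show g * t * g⁻¹ = v * ((v⁻¹ * g) * t) * (v⁻¹ * g)⁻¹ * v⁻¹ by group, mem_cent.mp hm]
      group
    rw [e]
    exact mul_mem (mul_mem (Subgroup.le_normalizer hv) htn) (inv_mem (Subgroup.le_normalizer hv))
  let P : Set G := Set.range fun p : G × G => p.1 * t * p.1⁻¹ * (p.2 * t * p.2⁻¹)
  have hPW : closure P ≤ W := (closure_le _).mpr (by
    rintro _ ⟨p, rfl⟩
    exact (h.conj_inverter hw hwc ((Involutions.orderOf_conj p.2 t).trans ht) (hall p.2)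
      ((Involutions.orderOf_conj p.1 t).trans ht) (hall p.1)).1)
  haveI hn : (closure P).Normal := ⟨fun u hu g => by
    have hP : (closure P).map (MulAut.conj g).toMonoidHom ≤ closure P := by
      rw [MonoidHom.map_closure]
      refine closure_mono ?_
      rintro _ ⟨_, ⟨p, rfl⟩, rfl⟩
      refine ⟨(g * p.1, g * p.2), ?_⟩
      simp only [MulEquiv.coe_toMonoidHom, MulAut.conj_apply]
      group
    exact hP ⟨u, hu, rfl⟩⟩
  rcases eq_or_ne (closure P) ⊥ with e | e
  · refine class_comm_absurd ht1 fun g => ?_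
    have h1 : g * t * g⁻¹ * t = 1 :=
      mem_bot.mp (e ▸ subset_closure ⟨(g, 1), by simp⟩)
    rw [mul_eq_one_iff_eq_inv] at h1
    rw [h1, inv_mul_cancel, mul_inv_cancel]
  · exact abelian_normal_absurd (fun u hu v hv => h.comm_c hw hwc (hPW hu) (hPW hv)) e

end Chain

end CfsgLib.ConjRankThree
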