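import Cfsg.Agent.Lib.ConjRankThree.General
import Cfsg.Agent.S4146

set_option autoImplicit false

/-!
Three centralizer orders, one properly dividing another: the group order is a product of two coprime
orders of centralizers, and the centralizers of the third order are abelian.
-/

namespace CfsgLib.ConjRankThree

open Subgroup

universe u

variable {G : Type u} [Group G] [Finite G] [Centerless G] {a b c : ℕ}

/-- The three orders. -/
structure Chain (G : Type u) [Group G] (a b c : ℕ) : Prop where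
  ns : ¬ Group.IsSolvable G
  val : ∀ x : G, x ≠ 1 → cc x = a ∨ cc x = b ∨ cc x = c
  hab : a ∣ b
  hlt : a < b
  hac : a ≠ c
  hbc : b ≠ c
  exB : ∃ x : G, x ≠ 1 ∧ cc x = b
  exC : ∃ x : G, x ≠ 1 ∧ cc x = c

namespace Chain

theorem pos (h : Chain G a b c) : 0 < b ∧ 0 < c := by
  obtain ⟨y, -, hy⟩ := h.exB
  obtain ⟨w, -, hw⟩ := h.exC
  exact ⟨hy ▸ cc_pos y, hw ▸ cc_pos w⟩

theorem dvd_g (h : Chain G a b c) : b ∣ Nat.card G ∧ c ∣ Nat.card G := by
  obtain ⟨y, -, hy⟩ := h.exB
  obtain ⟨w, -, hw⟩ := h.exC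
  exact ⟨hy ▸ cc_dvd y, hw ▸ cc_dvd w⟩

theorem lt_g (h : Chain G a b c) : b < Nat.card G ∧ c < Nat.card G := by
  obtain ⟨y, hy1, hy⟩ := h.exB
  obtain ⟨w, hw1, hw⟩ := h.exC
  exact ⟨hy ▸ cc_lt hy1, hw ▸ cc_lt hw1⟩

theorem full_or (h : Chain G a b c) {r : ℕ} (hr : r.Prime) : (r ^ (Nat.card G).factorization r) ∣ b ∨ (r ^ (Nat.card G).factorization r) ∣ c := by
  by_cases hd : r ∣ Nat.card G
  · haveI := Fact.mk hr
    obtain ⟨z, hz1, -, -, hzR⟩ := exists_central_sylow hd (default : Sylow r G)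
    have h1 := sylow_dvd_of_le _ hzR
    rcases h.val z hz1 with e | e | e <;> rw [e] at h1
    · exact Or.inl (h1.trans h.hab)
    · exact Or.inl h1
    · exact Or.inr h1
  · exact Or.inl (by rw [Nat.factorization_eq_zero_of_not_dvd hd, pow_zero]; exact one_dvd b)

theorem g_dvd (h : Chain G a b c) : Nat.card G ∣ Nat.lcm b c := by
  rw [Nat.dvd_iff_prime_pow_dvd_dvd]
  intro r k hr hk
  refine (Nat.pow_dvd_pow r ((hr.pow_dvd_iff_le_factorization Nat.card_pos.ne').mp hk)).trans ?_
  rcases h.full_or hr with e | e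
  · exact e.trans (Nat.dvd_lcm_left b c)
  · exact e.trans (Nat.dvd_lcm_right b c)

theorem not_c_dvd_b (h : Chain G a b c) : ¬ c ∣ b := fun e => by
  have h1 := h.g_dvd
  rw [Nat.lcm_eq_left e] at h1
  exact absurd (Nat.le_of_dvd h.pos.1 h1) (not_le.mpr h.lt_g.1)

theorem not_b_dvd_c (h : Chain G a b c) : ¬ b ∣ c := fun e => by
  have h1 := h.g_dvd
  rw [Nat.lcm_eq_right e] at h1
  exact absurd (Nat.le_of_dvd h.pos.2 h1) (not_le.mpr h.lt_g.2)

theorem not_c_dvd_a (h : Chain G a b c) : ¬ c ∣ a := fun e => h.not_c_dvd_b (e.trans h.hab)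

theorem not_b_dvd_a (h : Chain G a b c) : ¬ b ∣ a := fun e =>
  absurd (Nat.eq_zero_of_dvd_of_lt e h.hlt ▸ h.hab) (fun e0 => h.pos.1.ne' (Nat.eq_zero_of_zero_dvd e0))

theorem cc_eq_a (h : Chain G a b c) {x : G} (hx : x ≠ 1) (hd : cc x ∣ a) : cc x = a := by
  rcases h.val x hx with e | e | e
  · exact e
  · exact absurd (e ▸ hd) h.not_b_dvd_a
  · exact absurd (e ▸ hd) h.not_c_dvd_a

theorem idx_mul_cc (x : G) : cc x * (centralizer ({x} : Set G)).index = Nat.card G :=
  (centralizer ({x} : Set G)).card_mul_index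

theorem coprime_index (h : Chain G a b c) {y w : G} (hyb : cc y = b) (hwc : cc w = c) :
    (centralizer ({y} : Set G)).index.Coprime (centralizer ({w} : Set G)).index := by
  refine Nat.coprime_of_dvd fun r hr h1 h2 => ?_
  have e1 := (centralizer ({y} : Set G)).card_mul_index
  have e2 := (centralizer ({w} : Set G)).card_mul_index
  rcases h.full_or hr with e | e
  · rw [← hyb] at e
    have := (mul_dvd_mul e h1).trans (dvd_of_eq e1)
    rw [← pow_succ] at this
    exact absurd ((hr.pow_dvd_iff_le_factorization Nat.card_pos.ne').mp this) (by omega)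
  · rw [← hwc] at e
    have := (mul_dvd_mul e h2).trans (dvd_of_eq e2)
    rw [← pow_succ] at this
    exact absurd ((hr.pow_dvd_iff_le_factorization Nat.card_pos.ne').mp this) (by omega)

theorem index_inf (h : Chain G a b c) {y w : G} (hyb : cc y = b) (hwc : cc w = c) :
    (centralizer ({y} : Set G) ⊓ centralizer ({w} : Set G)).index =
      (centralizer ({y} : Set G)).index * (centralizer ({w} : Set G)).index :=
  le_antisymm index_inf_le
    (Nat.le_of_dvd (Nat.pos_of_ne_zero index_ne_zero_of_finite)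
      ((h.coprime_index hyb hwc).mul_dvd_of_dvd_of_dvd (index_dvd_of_le inf_le_left) (index_dvd_of_le inf_le_right)))

theorem cc_pow_b (h : Chain G a b c) {y : G} {n : ℕ} (hyb : cc y = b) (hn : y ^ n ≠ 1) : cc (y ^ n) = b := by
  have hd := cc_le_of_le (cent_le_pow y n)
  rw [hyb] at hd
  rcases h.val _ hn with e | e | e
  · exact absurd (e ▸ hd) h.not_b_dvd_a
  · exact e
  · exact absurd (e ▸ hd) h.not_b_dvd_c

theorem cc_pow_c (h : Chain G a b c) {w : G} {n : ℕ} (hwc : cc w = c) (hn : w ^ n ≠ 1) : cc (w ^ n) = c := by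
  have hd := cc_le_of_le (cent_le_pow w n)
  rw [hwc] at hd
  rcases h.val _ hn with e | e | e
  · exact absurd (e ▸ hd) h.not_c_dvd_a
  · exact absurd (e ▸ hd) h.not_c_dvd_b
  · exact e

theorem pair_absurd (h : Chain G a b c) {y w : G} (hy : y ≠ 1) (hw : w ≠ 1) (hyb : cc y = b) (hwc : cc w = c)
    (hc : Commute y w) (hco : (orderOf y).Coprime (orderOf w)) : False := by
  have hmul := mul_cent hc hco
  have hne : y * w ≠ 1 := mul_ne_one_of_coprime hy hco
  have hu : cc (y * w) = a := by
    have h1 := hyb ▸ cc_le_of_le (hmul.le.trans inf_le_left)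
    have h2 := hwc ▸ cc_le_of_le (hmul.le.trans inf_le_right)
    rcases h.val _ hne with e | e | e
    · exact e
    · exact absurd (e ▸ h2) h.not_b_dvd_c
    · exact absurd (e ▸ h1) h.not_c_dvd_b
  have key : ∀ u v : G, cc u = cc v → (centralizer ({u} : Set G)).index = (centralizer ({v} : Set G)).index := by
    intro u v e
    have e1 := idx_mul_cc u
    rw [e, ← idx_mul_cc v] at e1
    exact Nat.eq_of_mul_eq_mul_left (cc_pos v) e1
  have hone : ∀ u : G, u ≠ 1 → (centralizer ({u} : Set G)).index ≠ 1 := fun u hu' e =>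
    cent_ne_top hu' (index_eq_one.mp e)
  have hgt : ∀ u : G, u ≠ 1 → 1 < (centralizer ({u} : Set G)).index := fun u hu' =>
    lt_of_le_of_ne (Nat.pos_of_ne_zero index_ne_zero_of_finite) (hone u hu').symm
  have hprod : (centralizer ({y * w} : Set G)).index =
      (centralizer ({y} : Set G)).index * (centralizer ({w} : Set G)).index := by
    rw [hmul, h.index_inf hyb hwc]
  have hset : Set.range (fun x : G => (centralizer ({x} : Set G)).index) =
      ({1, (centralizer ({y} : Set G)).index, (centralizer ({w} : Set G)).index,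
        (centralizer ({y} : Set G)).index * (centralizer ({w} : Set G)).index} : Set ℕ) := by
    ext n
    simp only [Set.mem_range, Set.mem_insert_iff, Set.mem_singleton_iff]
    constructor
    · rintro ⟨x, rfl⟩
      rcases eq_or_ne x 1 with rfl | hx
      · exact Or.inl (index_eq_one.mpr (eq_top_iff.mpr fun g _ => mem_cent.mpr (by simp)))
      rcases h.val x hx with e | e | e
      · exact Or.inr (Or.inr (Or.inr ((key _ _ (e.trans hu.symm)).trans hprod)))
      · exact Or.inr (Or.inl (key _ _ (e.trans hyb.symm)))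
      · exact Or.inr (Or.inr (Or.inl (key _ _ (e.trans hwc.symm))))
    · rintro (rfl | rfl | rfl | rfl)
      · exact ⟨1, index_eq_one.mpr (eq_top_iff.mpr fun g _ => mem_cent.mpr (by simp))⟩
      · exact ⟨y, rfl⟩
      · exact ⟨w, rfl⟩
      · exact ⟨y * w, hprod⟩
  haveI := (Cfsg.Agent.S4146.result _ _ (hgt y hy) (hgt w hw) (h.coprime_index hyb hwc) hset).1
  exact h.ns inferInstance

theorem not_comm_primary (h : Chain G a b c) {p : ℕ} (hp : p.Prime) {y w : G} (hy : y ≠ 1) (hw : w ≠ 1)
    (hyp : ∃ k, orderOf y = p ^ k) (hwp : ∃ k, orderOf w = p ^ k) (hyb : cc y = b) (hwc : cc w = c)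
    (hc : Commute y w) : False := by
  have hindex := idx_mul_cc y
  rw [hyb] at hindex
  have not_full_b : ∀ {r : ℕ}, r.Prime → r ∣ (centralizer ({y} : Set G)).index →
      ¬ r ^ (Nat.card G).factorization r ∣ b := by
    intro r hr hrd hd
    have h3 := mul_dvd_mul hd hrd
    rw [hindex, ← pow_succ] at h3
    exact absurd ((hr.pow_dvd_iff_le_factorization Nat.card_pos.ne').mp h3) (by omega)
  by_cases hA : ∃ r, r.Prime ∧ r ≠ p ∧ r ∣ (centralizer ({y} : Set G)).index
  · obtain ⟨r, hr, hrp, hrd⟩ := hA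
    haveI := Fact.mk hr
    have hnb := not_full_b hr hrd
    have hfc := (h.full_or hr).resolve_left hnb
    obtain ⟨R, hR⟩ := exists_sylow_le' (x := w) (hwc ▸ hfc)
    obtain ⟨z, hz1, hzr, hzR, hRz⟩ := exists_central_sylow
      (hrd.trans ((centralizer ({y} : Set G)).index_dvd_card)) R
    have hzw : Commute z w := mem_cent.mp (hR hzR)
    have hco := coprime_of_not_eq hr hp hrp hzr hwp
    have hmul := mul_cent hzw hco
    have hfull : r ^ (Nat.card G).factorization r ∣ cc (z * w) :=
      sylow_dvd_of_le R (hmul ▸ le_inf hRz hR)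
    have hzwc : cc (z * w) = c := by
      rcases h.val _ (mul_ne_one_of_coprime hz1 hco) with e | e | e
      · exact absurd ((e ▸ hfull).trans h.hab) hnb
      · exact absurd (e ▸ hfull) hnb
      · exact e
    have heq : centralizer ({z * w} : Set G) = centralizer ({w} : Set G) :=
      eq_of_le_of_card_ge (hmul.le.trans inf_le_right) (le_of_eq (hwc.trans hzwc.symm))
    have hyz : y ∈ centralizer ({z} : Set G) :=
      (heq.ge.trans (hmul.le.trans inf_le_left)) (mem_cent.mpr hc.eq)
    rcases h.val z hz1 with e | e | e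
    · exact hnb ((e ▸ sylow_dvd_of_le R hRz).trans h.hab)
    · exact hnb (e ▸ sylow_dvd_of_le R hRz)
    · exact h.pair_absurd hy hz1 hyb e (mem_cent.mp hyz) (coprime_of_not_eq hp hr hrp.symm hyp hzr)
  push Not at hA
  have hi1 : (centralizer ({y} : Set G)).index ≠ 1 := fun e => cent_ne_top hy (index_eq_one.mp e)
  have hib := Nat.eq_prime_pow_of_unique_prime_dvd index_ne_zero_of_finite
    (fun {d} hd hdi => by_contra fun hne => hA d hd hne hdi)
  have hpib : p ∣ (centralizer ({y} : Set G)).index := by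
    obtain ⟨d, hd, hdi⟩ := Nat.exists_prime_and_dvd hi1
    have : d = p := by_contra fun hne => hA d hd hne hdi
    exact this ▸ hdi
  set K := centralizer ({y} : Set G) ⊓ centralizer ({w} : Set G)
  have hK : Nat.card K * (centralizer ({y} : Set G)).index = c := by
    have e1 := K.card_mul_index
    rw [h.index_inf hyb hwc, ← mul_assoc, ← idx_mul_cc w, hwc] at e1
    exact Nat.eq_of_mul_eq_mul_right (Nat.pos_of_ne_zero index_ne_zero_of_finite) e1
  by_cases hB : ∃ r, r.Prime ∧ r ≠ p ∧ r ∣ c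
  · obtain ⟨r, hr, hrp, hrc⟩ := hB
    obtain ⟨v, ⟨hvy, hvw⟩, hv, hv1⟩ := exists_orderOf_dvd hr (H := K)
      (((hr.dvd_mul).mp (hK.symm ▸ hrc)).resolve_right (hA r hr hrp))
    have hvr : ∃ k, orderOf v = r ^ k := ⟨1, by rw [hv, pow_one]⟩
    have hac : a ∣ c := by
      rcases h.val v hv1 with e | e | e
      · have hco := coprime_of_not_eq hr hp hrp hvr hwp
        have hmul := mul_cent (show Commute v w from mem_cent.mp hvw) hco
        have hd := cc_le_of_le (hmul.le.trans inf_le_left)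
        rw [e] at hd
        have := h.cc_eq_a (mul_ne_one_of_coprime hv1 hco) hd
        exact this ▸ hwc ▸ cc_le_of_le (hmul.le.trans inf_le_right)
      · exact (h.pair_absurd hv1 hw e hwc (mem_cent.mp hvw) (coprime_of_not_eq hr hp hrp hvr hwp)).elim
      · exact (h.pair_absurd hy hv1 hyb e (mem_cent.mp hvy).symm
          (coprime_of_not_eq hp hr hrp.symm hyp hvr)).elim
    obtain ⟨q, hq, hqd⟩ := Nat.exists_prime_and_dvd
      (show (centralizer ({w} : Set G)).index ≠ 1 from fun e => cent_ne_top hw (index_eq_one.mp e))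
    haveI := Fact.mk hq
    have hqp : q ≠ p := by
      rintro rfl
      exact hq.one_lt.ne' (Nat.dvd_one.mp ((h.coprime_index hyb hwc) ▸ Nat.dvd_gcd hpib hqd))
    have hnc : ¬ q ^ (Nat.card G).factorization q ∣ c := by
      intro hd
      have h3 := mul_dvd_mul (hwc ▸ hd) hqd
      rw [idx_mul_cc w, ← pow_succ] at h3
      exact absurd ((hq.pow_dvd_iff_le_factorization Nat.card_pos.ne').mp h3) (by omega)
    have hfb := (h.full_or hq).resolve_right hnc
    obtain ⟨R, hR⟩ := exists_sylow_le' (x := y) (hyb ▸ hfb)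
    obtain ⟨z, hz1, hzq, hzR, hRz⟩ := exists_central_sylow
      (hqd.trans (index_dvd_card _)) R
    have hco := coprime_of_not_eq hq hp hqp hzq hyp
    have hmul := mul_cent (show Commute z y from mem_cent.mp (hR hzR)) hco
    have hfull : q ^ (Nat.card G).factorization q ∣ cc (z * y) := sylow_dvd_of_le R (hmul ▸ le_inf hRz hR)
    have hzyb : cc (z * y) = b := by
      rcases h.val _ (mul_ne_one_of_coprime hz1 hco) with e | e | e
      · exact absurd ((e ▸ hfull).trans hac) hnc
      · exact e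
      · exact absurd (e ▸ hfull) hnc
    have heq : centralizer ({z * y} : Set G) = centralizer ({y} : Set G) :=
      eq_of_le_of_card_ge (hmul.le.trans inf_le_right) (le_of_eq (hyb.trans hzyb.symm))
    have hwz : w ∈ centralizer ({z} : Set G) :=
      (heq.ge.trans (hmul.le.trans inf_le_left)) (mem_cent.mpr hc.eq.symm)
    rcases h.val z hz1 with e | e | e
    · exact hnc ((e ▸ sylow_dvd_of_le R hRz).trans hac)
    · exact h.pair_absurd hz1 hw e hwc (mem_cent.mp hwz).symm (coprime_of_not_eq hq hp hqp hzq hwp)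
    · exact hnc (e ▸ sylow_dvd_of_le R hRz)
  -- the order `c` is a power of the prime
  push Not at hB
  haveI := Fact.mk hp
  have hcpow := Nat.eq_prime_pow_of_unique_prime_dvd h.pos.2.ne'
    (fun {d} hd hdc => by_contra fun hne => hB d hd hne hdc)
  have hfullc : p ^ (Nat.card G).factorization p ∣ c := (h.full_or hp).resolve_left (not_full_b hp hpib)
  set H := centralizer ({y} : Set G)
  have hsz : ∀ x : H, (orderOf x).Coprime p → x ∉ center H →
      (centralizer ({x} : Set H)).index = b / a := by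
    intro x hx hxc
    have hxy : Commute (x : G) y := mem_cent.mp x.2
    have hco : (orderOf (x : G)).Coprime (orderOf y) := by
      obtain ⟨k, hk⟩ := hyp
      rw [hk, Subgroup.orderOf_coe]
      exact hx.pow_right k
    have hx1 : (x : G) ≠ 1 := fun e => hxc ((Subtype.ext e : x = 1) ▸ one_mem _)
    have hmul := mul_cent hxy hco
    have hd := cc_le_of_le (hmul.le.trans inf_le_right)
    have hcard : Nat.card (centralizer ({x} : Set H)) = cc ((x : G) * y) := by
      rw [cc, hmul]
      refine Nat.card_congr ⟨fun u => ⟨u.1.1, mem_cent.mpr (congrArg Subtype.val (mem_centralizer_singleton_iff.mp u.2)),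
        u.1.2⟩, fun u => ⟨⟨u.1, u.2.2⟩, mem_centralizer_singleton_iff.mpr (Subtype.ext (mem_cent.mp u.2.1))⟩,
        fun _ => rfl, fun _ => rfl⟩
    have hval : cc ((x : G) * y) = a := by
      rw [hyb] at hd
      rcases h.val _ (mul_ne_one_of_coprime hx1 hco) with e | e | e
      · exact e
      · refine absurd (mem_center_iff.mpr fun g => ?_) hxc
        have : centralizer ({x} : Set H) = ⊤ := eq_top_of_card_eq _ (hcard.trans (e.trans hyb.symm))
        exact mem_centralizer_singleton_iff.mp (this ▸ mem_top g)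
      · exact absurd (e ▸ hd) h.not_c_dvd_b
    have e1 := (centralizer ({x} : Set H)).card_mul_index
    rw [hcard, hval, show Nat.card H = b from hyb] at e1
    rw [← e1, Nat.mul_div_cancel_left _ (hval ▸ cc_pos _)]
  obtain ⟨j, hj⟩ : ∃ j, (centralizer ({y} : Set G)).index = p ^ j := ⟨_, hib⟩
  obtain ⟨D, hDn, hDp, k, hDi⟩ := exists_nilpotent_complement hp hsz
  haveI := hDn
  haveI : Group.IsNilpotent (D.map H.subtype) :=
    Group.nilpotent_of_mulEquiv (D.equivMapOfInjective _ H.subtype_injective)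
  refine h.ns (isSolvable_of_complement hp (D := D.map H.subtype) inferInstance ?_
    (k := k + j) ?_ (S := centralizer ({w} : Set G)) ?_ ?_)
  · rwa [← Nat.card_congr (D.equivMapOfInjective _ H.subtype_injective).toEquiv]
  · rw [index_map_subtype, hDi]
    rw [hj, ← pow_add]
  · exact IsPGroup.of_card (hwc.trans hcpow)
  · exact (hwc.symm ▸ hfullc :)

/-- Elements of the two large orders do not commute. -/
theorem not_comm_bc (h : Chain G a b c) {y w : G} (hy : y ≠ 1) (hw : w ≠ 1) (hyb : cc y = b) (hwc : cc w = c) :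
    y * w ≠ w * y := by
  intro hc
  obtain ⟨n, p, hp, hn, hyp⟩ := exists_primary hy
  obtain ⟨m, q, hq, hm, hwq⟩ := exists_primary hw
  have hcomm : Commute (y ^ n) (w ^ m) := (show Commute y w from hc).pow_pow n m
  by_cases hpq : p = q
  · subst hpq
    exact h.not_comm_primary hp hn hm hyp hwq (h.cc_pow_b hyb hn) (h.cc_pow_c hwc hm) hcomm
  · exact h.pair_absurd hn hm (h.cc_pow_b hyb hn) (h.cc_pow_c hwc hm) hcomm (coprime_of_not_eq hp hq hpq hyp hwq)

theorem exists_primary_b (h : Chain G a b c) :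
    ∃ (y : G) (p : ℕ), p.Prime ∧ y ≠ 1 ∧ (∃ k, orderOf y = p ^ k) ∧ cc y = b := by
  obtain ⟨y, hy1, hy⟩ := h.exB
  obtain ⟨n, p, hp, hn, hk⟩ := exists_primary hy1
  refine ⟨y ^ n, p, hp, hn, hk, ?_⟩
  have hd := cc_le_of_le (cent_le_pow y n)
  rw [hy] at hd
  rcases h.val _ hn with e | e | e
  · exact absurd (e ▸ hd) h.not_b_dvd_a
  · exact e
  · exact absurd (e ▸ hd) h.not_b_dvd_c

/-- A conjugate centralizing a Sylow subgroup whose center contains a given element. -/
theorem key_center (h : Chain G a b c) {r : ℕ} [Fact r.Prime] (hfb : (r ^ (Nat.card G).factorization r) ∣ b) (R : Sylow r G) {z w : G}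
    (hz1 : z ≠ 1) (hzr : ∃ k, orderOf z = r ^ k) (hzR : z ∈ (R : Subgroup G))
    (hR : (R : Subgroup G) ≤ centralizer ({z} : Set G)) (hw1 : w ≠ 1) (hw : cc w = c)
    (hcomm : w * z = z * w) (hRw : (R : Subgroup G) ≤ centralizer ({w} : Set G) ∨ ∃ k, orderOf w = r ^ k ∧ w ∈ (R : Subgroup G)) :
    False := by
  obtain ⟨y0, p, hp, hy01, hy0p, hy0⟩ := h.exists_primary_b
  obtain ⟨g, hg⟩ := exists_sylow_le R (hy0 ▸ hfb)
  set y := g * y0 * g⁻¹ with hy_def
  have hy1 : y ≠ 1 := fun e => hy01 (conj_eq_one_iff.mp e)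
  have hyb : cc y = b := (cc_conj g y0).trans hy0
  have hyp : ∃ k, orderOf y = p ^ k := by rw [hy_def, ← MulAut.conj_apply, MulEquiv.orderOf_eq]; exact hy0p
  have hyz : z ∈ centralizer ({y} : Set G) := hg hzR
  by_cases hpr : p = r
  · -- then the conjugate lies in the Sylow subgroup
    subst hpr
    obtain ⟨k, hk⟩ := hyp
    have hyR : y ∈ (R : Subgroup G) := by
      have hP : IsPGroup p ((R : Subgroup G) ⊔ zpowers y : Subgroup G) := by
        refine R.2.to_sup_of_normal_left' (IsPGroup.of_card (n := k) (by rw [Nat.card_zpowers, hk])) ?_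
        refine zpowers_le.mpr ?_
        rw [mem_normalizer_iff]
        intro u
        have key : ∀ v ∈ (R : Subgroup G), y * v * y⁻¹ = v := fun v hv => by
          rw [← mem_cent.mp (hg hv), mul_inv_cancel_right]
        refine ⟨fun hu => (key u hu).symm ▸ hu, fun hu => ?_⟩
        have := key _ hu
        rw [show u = y * u * y⁻¹ from mul_right_cancel (mul_left_cancel (by
          simpa [mul_assoc] using this.symm : y * (u * y⁻¹) = y * ((y * u * y⁻¹) * y⁻¹)))]
        exact hu
      exact (le_of_eq (R.3 hP le_sup_left)) (mem_sup_right (mem_zpowers y))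
    refine h.not_comm_bc hy1 hw1 hyb hw ?_
    rcases hRw with h2 | ⟨_, _, hwR⟩
    · exact mem_cent.mp (h2 hyR)
    · exact (mem_cent.mp (hg hwR)).symm
  · rcases h.val z hz1 with e | e | e
    · have hco := coprime_of_not_eq (Fact.out : r.Prime) hp (Ne.symm hpr) hzr hyp
      have hzy : Commute z y := mem_cent.mp hyz
      have hmul := mul_cent hzy hco
      have hne : z * y ≠ 1 := mul_ne_one_of_coprime hz1 hco
      have hd : cc (z * y) ∣ a := e ▸ cc_le_of_le (hmul.le.trans inf_le_left)
      have heq : centralizer ({z * y} : Set G) = centralizer ({z} : Set G) :=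
        eq_of_le_of_card_ge (hmul.le.trans inf_le_left) (by
          show cc z ≤ cc (z * y)
          rw [e, h.cc_eq_a hne hd])
      have hwy : w ∈ centralizer ({y} : Set G) :=
        (heq.ge.trans (hmul.le.trans inf_le_right)) (mem_cent.mpr hcomm)
      exact h.not_comm_bc hy1 hw1 hyb hw (mem_cent.mp hwy).symm
    · exact h.not_comm_bc hz1 hw1 e hw hcomm.symm
    · exact h.not_comm_bc hy1 hz1 hyb e (mem_cent.mp hyz).symm

theorem not_both (h : Chain G a b c) {r : ℕ} (hr : r.Prime) (hd : r ∣ Nat.card G) :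
    ¬ ((r ^ (Nat.card G).factorization r) ∣ b ∧ (r ^ (Nat.card G).factorization r) ∣ c) := by
  rintro ⟨hb, hc⟩
  haveI := Fact.mk hr
  set R : Sylow r G := default
  obtain ⟨z, hz1, hzr, hzR, hR⟩ := exists_central_sylow hd R
  obtain ⟨w, hw1, hw⟩ := h.exC
  obtain ⟨g, hg⟩ := exists_sylow_le R (hw ▸ hc)
  exact h.key_center hb R hz1 hzr hzR hR (fun e => hw1 (conj_eq_one_iff.mp e)) ((cc_conj g w).trans hw)
    (mem_cent.mp (hg hzR)).symm (Or.inl hg)

/-- A prime with full power in `c` does not divide `b`. -/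
theorem not_dvd_b (h : Chain G a b c) {r : ℕ} (hr : r.Prime) (hd : r ∣ Nat.card G) (hc : (r ^ (Nat.card G).factorization r) ∣ c) : ¬ r ∣ b := by
  intro hrb
  haveI := Fact.mk hr
  have hb : ¬ (r ^ (Nat.card G).factorization r) ∣ b := fun e => h.not_both hr hd ⟨e, hc⟩
  have central_c : ∀ (R : Sylow r G) (z : G), z ≠ 1 → (R : Subgroup G) ≤ centralizer ({z} : Set G) → cc z = c := by
    intro R z hz hR
    have h1 := sylow_dvd_of_le R hR
    rcases h.val z hz with e | e | e
    · exact absurd ((e ▸ h1).trans h.hab) hb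
    · exact absurd (e ▸ h1) hb
    · exact e
  obtain ⟨y, p, hp, hy1, hyp, hyb⟩ := h.exists_primary_b
  have not_b : ∀ v : G, v ≠ 1 → (∃ k, orderOf v = r ^ k) → cc v ≠ b := by
    intro v hv1 hv e
    obtain ⟨R, hvR⟩ := exists_sylow_of_mem hv
    obtain ⟨z, hz1, -, -, hR⟩ := exists_central_sylow hd R
    exact h.not_comm_bc hv1 hz1 e (central_c R z hz1 hR) (mem_cent.mp (hR hvR))
  have hpr : r ≠ p := fun e => not_b y hy1 (e ▸ hyp) hyb
  obtain ⟨v, hv⟩ := exists_prime_orderOf_dvd_card' (G := centralizer ({y} : Set G)) r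
    (show r ∣ cc y by rw [hyb]; exact hrb)
  rw [← Subgroup.orderOf_coe] at hv
  have hv1 : (v : G) ≠ 1 := fun e => by rw [e, orderOf_one] at hv; exact hr.one_lt.ne hv
  have hvr : ∃ k, orderOf (v : G) = r ^ k := ⟨1, by rw [hv, pow_one]⟩
  rcases h.val v hv1 with e | e | e
  · have hco := coprime_of_not_eq hr hp hpr hvr hyp
    have hvy : Commute (v : G) y := mem_cent.mp v.2
    have hmul := mul_cent hvy hco
    have hne : (v : G) * y ≠ 1 := mul_ne_one_of_coprime hv1 hco
    have hd' : cc ((v : G) * y) ∣ a := e ▸ cc_le_of_le (hmul.le.trans inf_le_left)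
    have heq : centralizer ({(v : G) * y} : Set G) = centralizer ({(v : G)} : Set G) :=
      eq_of_le_of_card_ge (hmul.le.trans inf_le_left) (by
        show cc (v : G) ≤ cc ((v : G) * y)
        rw [e, h.cc_eq_a hne hd'])
    obtain ⟨R, hvR⟩ := exists_sylow_of_mem hvr
    obtain ⟨z, hz1, -, -, hR⟩ := exists_central_sylow hd R
    have hzy : z ∈ centralizer ({y} : Set G) :=
      (heq.ge.trans (hmul.le.trans inf_le_right)) (mem_cent_symm (hR hvR))
    exact h.not_comm_bc hy1 hz1 hyb (central_c R z hz1 hR) (mem_cent.mp hzy).symm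
  · exact not_b v hv1 hvr e
  · exact h.not_comm_bc hy1 hv1 hyb e (mem_cent.mp v.2).symm

/-- A prime with full power in `b` does not divide `c`. -/
theorem not_dvd_c (h : Chain G a b c) {r : ℕ} (hr : r.Prime) (hd : r ∣ Nat.card G) (hb : (r ^ (Nat.card G).factorization r) ∣ b) : ¬ r ∣ c := by
  intro hrc
  haveI := Fact.mk hr
  have hc : ¬ (r ^ (Nat.card G).factorization r) ∣ c := fun e => h.not_both hr hd ⟨hb, e⟩
  have no_c : ∀ v : G, v ≠ 1 → (∃ k, orderOf v = r ^ k) → cc v ≠ c := by
    intro v hv1 hv e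
    obtain ⟨R, hvR⟩ := exists_sylow_of_mem hv
    obtain ⟨z, hz1, hzr, hzR, hR⟩ := exists_central_sylow hd R
    obtain ⟨k, hk⟩ := hv
    exact h.key_center hb R hz1 hzr hzR hR hv1 e (mem_cent.mp (hR hvR)) (Or.inr ⟨k, hk, hvR⟩)
  obtain ⟨w0, hw01, hw0⟩ := h.exC
  obtain ⟨n, s, hs, hw1, hws⟩ := exists_primary hw01
  set w := w0 ^ n
  have hwc : cc w = c := by
    have hd' := cc_le_of_le (cent_le_pow w0 n)
    rw [hw0] at hd'
    rcases h.val w hw1 with e | e | e
    · exact absurd (e ▸ hd') h.not_c_dvd_a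
    · exact absurd (e ▸ hd') h.not_c_dvd_b
    · exact e
  have hrs : r ≠ s := fun e => no_c w hw1 (e ▸ hws) hwc
  obtain ⟨v, hv⟩ := exists_prime_orderOf_dvd_card' (G := centralizer ({w} : Set G)) r
    (show r ∣ cc w by rw [hwc]; exact hrc)
  rw [← Subgroup.orderOf_coe] at hv
  have hv1 : (v : G) ≠ 1 := fun e => by rw [e, orderOf_one] at hv; exact hr.one_lt.ne hv
  have hvr : ∃ k, orderOf (v : G) = r ^ k := ⟨1, by rw [hv, pow_one]⟩
  rcases h.val v hv1 with e | e | e
  · -- the centralizer of `v` lies in that of `w`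
    have absorb : ∀ x : G, x ≠ 1 → (∃ k, orderOf x = r ^ k) → cc x = a → x ∈ centralizer ({w} : Set G) →
        centralizer ({x} : Set G) ≤ centralizer ({w} : Set G) := by
      intro x hx1 hxr hxa hxw
      have hco := coprime_of_not_eq hr hs hrs hxr hws
      have hmul := mul_cent (show Commute x w from mem_cent.mp hxw) hco
      have hne : x * w ≠ 1 := mul_ne_one_of_coprime hx1 hco
      have heq : centralizer ({x * w} : Set G) = centralizer ({x} : Set G) :=
        eq_of_le_of_card_ge (hmul.le.trans inf_le_left) (by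
          show cc x ≤ cc (x * w)
          rw [hxa, h.cc_eq_a hne (hxa ▸ cc_le_of_le (hmul.le.trans inf_le_left))])
      exact heq.ge.trans (hmul.le.trans inf_le_right)
    obtain ⟨R, hvR⟩ := exists_sylow_of_mem hvr
    obtain ⟨z, hz1, hzr, hzR, hR⟩ := exists_central_sylow hd R
    have hzw := absorb v hv1 hvr e v.2 (mem_cent_symm (hR hvR))
    rcases h.val z hz1 with e' | e' | e'
    · have hRw : (R : Subgroup G) ≤ centralizer ({w} : Set G) := hR.trans (absorb z hz1 hzr e' hzw)
      exact hc (hwc ▸ sylow_dvd_of_le R hRw)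
    · exact h.not_comm_bc hz1 hw1 e' hwc (mem_cent.mp hzw)
    · exact hc (e' ▸ sylow_dvd_of_le R hR)
  · exact h.not_comm_bc hv1 hw1 e hwc (mem_cent.mp v.2)
  · exact no_c v hv1 hvr e

theorem coprime (h : Chain G a b c) : b.Coprime c := by
  refine Nat.coprime_of_dvd fun r hr h1 h2 => ?_
  have hd : r ∣ Nat.card G := h1.trans h.dvd_g.1
  rcases h.full_or hr with e | e
  · exact h.not_dvd_c hr hd e h2
  · exact h.not_dvd_b hr hd e h1

theorem mul_eq (h : Chain G a b c) : b * c = Nat.card G :=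
  Nat.dvd_antisymm (h.coprime.mul_dvd_of_dvd_of_dvd h.dvd_g.1 h.dvd_g.2)
    (h.g_dvd.trans (Nat.lcm_dvd_mul b c))

theorem coprime_a (h : Chain G a b c) : a.Coprime c := h.coprime.coprime_dvd_left h.hab

/-- The order of an element decides the order of its centralizer. -/
theorem val_ab (h : Chain G a b c) {x : G} (hx : x ≠ 1) (hd : ¬ (orderOf x).Coprime b) : cc x = a ∨ cc x = b := by
  rcases h.val x hx with e | e | e
  · exact Or.inl e
  · exact Or.inr e
  · exact absurd (h.coprime.symm.coprime_dvd_left (e ▸ orderOf_dvd_cc (self_mem x))) hd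

theorem orderOf_dvd (h : Chain G a b c) {x : G} (hx : x ≠ 1) :
    (cc x = c ∧ orderOf x ∣ c ∧ ¬ orderOf x ∣ b) ∨ ((cc x = a ∨ cc x = b) ∧ orderOf x ∣ b ∧ ¬ orderOf x ∣ c) := by
  have hne : ∀ m n : ℕ, m.Coprime n → orderOf x ∣ m → ¬ orderOf x ∣ n := fun m n hmn h1 h2 => by
    have := Nat.dvd_gcd h1 h2
    rw [hmn.gcd_eq_one] at this
    exact hx (orderOf_eq_one_iff.mp (Nat.dvd_one.mp this))
  rcases h.val x hx with e | e | e
  · have := (e ▸ orderOf_dvd_cc (self_mem x)).trans h.hab
    exact Or.inr ⟨Or.inl e, this, hne b c h.coprime this⟩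
  · have := e ▸ orderOf_dvd_cc (self_mem x)
    exact Or.inr ⟨Or.inr e, this, hne b c h.coprime this⟩
  · have := e ▸ orderOf_dvd_cc (self_mem x)
    exact Or.inl ⟨e, this, hne c b h.coprime.symm this⟩

theorem cc_c_comm (h : Chain G a b c) {w l : G} (hw : w ≠ 1) (hl : l ≠ 1) (hwc : cc w = c)
    (hlw : l ∈ centralizer ({w} : Set G)) : cc l = c := by
  rcases h.orderOf_dvd hl with ⟨e, -, -⟩ | ⟨-, -, hn⟩
  · exact e
  · exact absurd (hwc ▸ orderOf_dvd_cc hlw) hn

/-- The centralizers of order `c` are abelian and contain the centralizers of their elements. -/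
theorem cent_c_of (h : Chain G a b c) (hnp : ¬ ∃ s k : ℕ, s.Prime ∧ c = s ^ k) {w : G} (hw : w ≠ 1) (hwc : cc w = c) {l : G}
    (hl : l ∈ centralizer ({w} : Set G)) (hl1 : l ≠ 1) : centralizer ({l} : Set G) = centralizer ({w} : Set G) := by
  have inf_eq : ∀ {u v : G}, u ≠ 1 → v ≠ 1 → cc u = c → cc v = c → Commute u v →
      (orderOf u).Coprime (orderOf v) → centralizer ({u} : Set G) = centralizer ({v} : Set G) := by
    intro u v hu hv huc hvc huv hco
    have hmul := mul_cent huv hco
    have hne : u * v ≠ 1 := mul_ne_one_of_coprime hu hco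
    have hc' : cc (u * v) = c := h.cc_c_comm hu hne huc
      (mem_cent.mpr (((Commute.refl u).mul_left huv.symm).eq))
    have e1 : centralizer ({u * v} : Set G) = centralizer ({u} : Set G) :=
      eq_of_le_of_card_ge (hmul.le.trans inf_le_left) (by show cc u ≤ cc (u * v); rw [hc', huc])
    have e2 : centralizer ({u * v} : Set G) = centralizer ({v} : Set G) :=
      eq_of_le_of_card_ge (hmul.le.trans inf_le_right) (by show cc v ≤ cc (u * v); rw [hc', hvc])
    rw [← e1, e2]
  -- the primary part of `w`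
  obtain ⟨n, s, hs, hws1, hws⟩ := exists_primary hw
  have hle := cent_le_pow w n
  have hwsc : cc (w ^ n) = c := h.cc_c_comm hw hws1 hwc (pow_mem (self_mem w) n)
  have hW : centralizer ({w ^ n} : Set G) = centralizer ({w} : Set G) :=
    (eq_of_le_of_card_ge hle (by show cc (w ^ n) ≤ cc w; rw [hwsc, hwc])).symm
  -- an element of another prime order
  obtain ⟨r, hr, hrc, hrs⟩ : ∃ r, r.Prime ∧ r ∣ c ∧ r ≠ s := by
    by_contra hcon
    push Not at hcon
    exact hnp ⟨s, _, hs, Nat.eq_prime_pow_of_unique_prime_dvd h.pos.2.ne' (fun {d} hd hdc => hcon d hd hdc)⟩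
  haveI := Fact.mk hr
  obtain ⟨⟨k, hk⟩, hko⟩ := exists_prime_orderOf_dvd_card' (G := centralizer ({w} : Set G)) r
    (show r ∣ cc w by rw [hwc]; exact hrc)
  rw [← Subgroup.orderOf_coe] at hko
  have hk1 : k ≠ 1 := fun e => by
    simp only [e, orderOf_one] at hko
    exact hr.one_lt.ne hko
  have hkc : cc k = c := h.cc_c_comm hw hk1 hwc hk
  have hK : centralizer ({k} : Set G) = centralizer ({w} : Set G) := by
    rw [← hW]
    refine inf_eq hk1 hws1 hkc hwsc (mem_cent.mp (hle hk)) (coprime_of_not_eq hr hs hrs ⟨1, ?_⟩ hws)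
    rw [pow_one]
    exact hko
  obtain ⟨m, t, ht, hlt1, hlt⟩ := exists_primary hl1
  have hlc : cc l = c := h.cc_c_comm hw hl1 hwc hl
  have hltc : cc (l ^ m) = c := h.cc_c_comm hw hlt1 hwc (pow_mem hl m)
  have hL : centralizer ({l ^ m} : Set G) = centralizer ({l} : Set G) :=
    (eq_of_le_of_card_ge (cent_le_pow l m) (by show cc (l ^ m) ≤ cc l; rw [hlc, hltc])).symm
  by_cases hts : t = s
  · rw [← hL, ← hK]
    refine inf_eq hlt1 hk1 hltc hkc (mem_cent.mp (hK.symm ▸ pow_mem hl m))
      (coprime_of_not_eq ht hr (hts ▸ hrs.symm) hlt ⟨1, ?_⟩)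
    rw [pow_one]
    exact hko
  · rw [← hL, ← hW]
    exact inf_eq hlt1 hws1 hltc hwsc (mem_cent.mp (hW.symm ▸ pow_mem hl m)) (coprime_of_not_eq ht hs hts hlt hws)

theorem comm_c_of (h : Chain G a b c) (hnp : ¬ ∃ s k : ℕ, s.Prime ∧ c = s ^ k) {w u v : G} (hw : w ≠ 1) (hwc : cc w = c)
    (hu : u ∈ centralizer ({w} : Set G)) (hv : v ∈ centralizer ({w} : Set G)) : u * v = v * u := by
  rcases eq_or_ne v 1 with rfl | hv1
  · simp
  · exact mem_cent.mp ((h.cent_c_of hnp hw hwc hv hv1).symm ▸ hu)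

theorem not_primePow_c [Mono G] (h : Chain G a b c) : ¬ ∃ s k : ℕ, s.Prime ∧ c = s ^ k := by
  rintro ⟨s, k, hs, hpow⟩
  obtain ⟨y, hy1, hy⟩ := h.exB
  exact index_not_primePow hy1 hs (hy ▸ hpow ▸ h.mul_eq.symm)

theorem cent_c [Mono G] (h : Chain G a b c) {w : G} (hw : w ≠ 1) (hwc : cc w = c) {l : G}
    (hl : l ∈ centralizer ({w} : Set G)) (hl1 : l ≠ 1) : centralizer ({l} : Set G) = centralizer ({w} : Set G) :=
  h.cent_c_of h.not_primePow_c hw hwc hl hl1

theorem comm_c [Mono G] (h : Chain G a b c) {w u v : G} (hw : w ≠ 1) (hwc : cc w = c)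
    (hu : u ∈ centralizer ({w} : Set G)) (hv : v ∈ centralizer ({w} : Set G)) : u * v = v * u :=
  h.comm_c_of h.not_primePow_c hw hwc hu hv

end Chain

end CfsgLib.ConjRankThree
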